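import Cfsg.Agent.ChevExt.Universal
import Cfsg.Agent.ChevExt.Data.E6
import Cfsg.Agent.ChevExt.Data.E7
import Cfsg.Agent.ChevExt.Data.EmbE6
import Cfsg.Agent.ChevExt.Data.EmbE7
import Cfsg.Agent.Chev.SimpleAll

/-!
The universal groups of type E6 and E7: perfectness, faithful torus and centre.
-/

set_option autoImplicit false

namespace Cfsg.Agent.ChevExt

open Cfsg.Lie Cfsg.Agent.Chev
open scoped MatrixGroups

universe u

variable {F : Type u} [Field F]

theorem e6_perfect : commutator (chevE6.SteinbergGroup F) = ⊤ :=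
  (stLift facts_chevE6).commutator_eq_top extra_chevE6 (fun e => Bool.noConfusion e) e6_perfect_chk

theorem e7_perfect : commutator (chevE7.SteinbergGroup F) = ⊤ :=
  (stLift facts_chevE7).commutator_eq_top extra_chevE7 (fun e => Bool.noConfusion e) e7_perfect_chk

theorem e6_hTor_injective : Function.Injective
    (hTor (stLift facts_chevE6 (F := F)) extra_chevE6 (stLift_hMul facts_chevE6)) :=
  hTor_injective embE6 facts_chevE6 facts_chevE8 extra_chevE6
    (torusHom_injective e8_checks facts_chevE8 e8_smith (by decide))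

theorem e7_hTor_injective : Function.Injective
    (hTor (stLift facts_chevE7 (F := F)) extra_chevE7 (stLift_hMul facts_chevE7)) :=
  hTor_injective embE7 facts_chevE7 facts_chevE8 extra_chevE7
    (torusHom_injective e8_checks facts_chevE8 e8_smith (by decide))

theorem e6_card_ker [Fintype F] :
    Nat.card ↥(torusHom : (Fin chevE6.rank → Fˣ) →* GL chevE6.Idx F).ker =
      Nat.gcd 3 (Fintype.card F - 1) := by
  rw [card_torusHom_ker e6_checks facts_chevE6 e6_smith,
    show chevE6.rank = 6 by decide, Fin.prod_univ_six]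
  simp [Nat.gcd_comm]

theorem e7_card_ker [Fintype F] :
    Nat.card ↥(torusHom : (Fin chevE7.rank → Fˣ) →* GL chevE7.Idx F).ker =
      Nat.gcd 2 (Fintype.card F - 1) := by
  rw [card_torusHom_ker e7_checks facts_chevE7 e7_smith,
    show chevE7.rank = 7 by decide, Fin.prod_univ_seven]
  simp [Nat.gcd_comm]

theorem e6_cyclic_ker [Fintype F] :
    IsCyclic ↥(torusHom : (Fin chevE6.rank → Fˣ) →* GL chevE6.Idx F).ker :=
  have : Fact (Nat.Prime 3) := ⟨Nat.prime_three⟩
  isCyclic_of_card_dvd_prime (p := 3) (e6_card_ker (F := F) ▸ Nat.gcd_dvd_left _ _)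

theorem e7_cyclic_ker [Fintype F] :
    IsCyclic ↥(torusHom : (Fin chevE7.rank → Fˣ) →* GL chevE7.Idx F).ker :=
  isCyclic_of_card_dvd_prime (p := 2) (e7_card_ker (F := F) ▸ Nat.gcd_dvd_left _ _)

theorem e6_card_center [Fintype F] :
    Nat.card (Subgroup.center (chevE6.SteinbergGroup F)) = Nat.gcd 3 (Fintype.card F - 1) := by
  rw [← (stLift facts_chevE6 (F := F)).ker_eq_center extra_chevE6, ← e6_card_ker]
  exact (Nat.card_congr (kerEquiv _ extra_chevE6 _ e6_hTor_injective).toEquiv).symm

theorem e7_card_center [Fintype F] :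
    Nat.card (Subgroup.center (chevE7.SteinbergGroup F)) = Nat.gcd 2 (Fintype.card F - 1) := by
  rw [← (stLift facts_chevE7 (F := F)).ker_eq_center extra_chevE7, ← e7_card_ker]
  exact (Nat.card_congr (kerEquiv _ extra_chevE7 _ e7_hTor_injective).toEquiv).symm

end Cfsg.Agent.ChevExt
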