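import Cfsg.Agent.ChevExt.Data.SmallB2

/-!
Lifts of (R1), (R2) for the type B2 over the field with three elements: the long root elements are
lifted as commutators of short root elements.
-/

set_option autoImplicit false

namespace Cfsg.Agent.ChevExt

open Cfsg.Lie Cfsg.Agent.Chev
open scoped MatrixGroups commutatorElement

universe u v w w'

/-- The exponent vectors for three elements. -/
def b23Cands : List (List ℤ) := [[-1, -1], [0, -1], [1, 0], [0, 1], [1, 1]]

/-- For each long root its two short roots and the coefficient of their commutator. -/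
def b2Long : List (ℕ × ℕ × ℕ × ℤ) := [(0, 1, 2, -2), (3, 1, 5, 2), (4, 2, 6, 2), (7, 5, 6, -2)]

/-- A short root: some exponent vector has exponent of absolute value one. -/
def shortB2 (r : ℕ) : Bool := b23Cands.any fun m => (dot chevB2 m r).natAbs == 1

theorem b2_long_or_short :
    ((List.range chevB2.nroots).all fun r => shortB2 r || b2Long.any fun e => e.1 == r) = true := by
  decide +kernel

theorem b2_long_chk : (b2Long.all fun e =>
    decide (e.1 < chevB2.nroots) && decide (e.2.1 < chevB2.nroots) &&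
    decide (e.2.2.1 < chevB2.nroots) && !(shortB2 e.1) && shortB2 e.2.1 && shortB2 e.2.2.1 &&
    e.2.2.1 != e.2.1 && e.2.2.1 != chevB2.neg e.2.1 && e.2.1 != chevB2.neg e.2.2.1 &&
    decide (chevB2.commTerms e.2.2.1 e.2.1 = [(e.1, e.2.2.2, 1, 1)]) &&
    decide (chevB2.commTerms e.2.1 e.2.2.1 = [(e.1, -e.2.2.2, 1, 1)]) &&
    e.2.2.2.natAbs == 2 && comR chevB2 e.2.1 e.1 && comR chevB2 e.2.2.1 e.1 &&
    (sepK chevB2 1 b23Cands e.2.1 e.1 || sepK chevB2 1 b23Cands e.1 e.2.1) &&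
    (sepK chevB2 1 b23Cands e.2.2.1 e.1 || sepK chevB2 1 b23Cands e.1 e.2.2.1) &&
    (b2Long.all fun e' => e'.1 != e.1 || decide (e' = e)) &&
    (List.range chevB2.rank).all fun i => b2Long.any fun e' =>
      e'.1 == chevB2.reflectRoot i e.1 &&
        ((e'.2.1 == chevB2.reflectRoot i e.2.1 && e'.2.2.1 == chevB2.reflectRoot i e.2.2.1) ||
          (e'.2.1 == chevB2.reflectRoot i e.2.2.1 && e'.2.2.1 == chevB2.reflectRoot i e.2.1)))
      = true := by
  decide +kernel

theorem b2_short_refl : ((List.range chevB2.rank).all fun i => (List.range chevB2.nroots).all fun r =>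
    !(shortB2 r) || shortB2 (chevB2.reflectRoot i r)) = true := by
  decide +kernel

theorem b2_pairs : ((List.range chevB2.nroots).all fun a => (List.range chevB2.nroots).all fun b =>
    decide (a < half chevB2) || decide (b ≤ a) || sepK chevB2 1 b23Cands b a ||
      sepK chevB2 1 b23Cands a b ||
      ((chevB2.commTerms a b).isEmpty && (chevB2.commTerms b a).isEmpty &&
        swapChk chevB2 b2Cert a b [0]) ||
      b2Long.any fun e => (e.2.1 == a && e.2.2.1 == b) || (e.2.1 == b && e.2.2.1 == a)) = true := by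
  decide +kernel

variable {F : Type u} [Field F] (h3 : ∀ a : F, a = 0 ∨ a = 1 ∨ a = -1) (h30 : (3 : F) = 0)
  (hroom : Room F 1) {E : Type v} [Group E] (A : CExt facts_chevB2 F E)

/-- The data of a long root. -/
structure LongSpec (r γ δ : ℕ) (N : ℤ) : Prop where
  hr : r < chevB2.nroots
  hγ : γ < chevB2.nroots
  hδ : δ < chevB2.nroots
  long : shortB2 r = false
  sγ : shortB2 γ = true
  sδ : shortB2 δ = true
  ne : δ ≠ γ
  ne_neg : δ ≠ chevB2.neg γ
  ne_neg' : γ ≠ chevB2.neg δ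
  terms : chevB2.commTerms δ γ = [(r, N, 1, 1)]
  absN : N.natAbs = 2
  cγ : comR chevB2 γ r = true
  cδ : comR chevB2 δ r = true
  pγ : sepK chevB2 1 b23Cands γ r = true ∨ sepK chevB2 1 b23Cands r γ = true
  pδ : sepK chevB2 1 b23Cands δ r = true ∨ sepK chevB2 1 b23Cands r δ = true
  uniq : ∀ e ∈ b2Long, e.1 = r → e = (r, γ, δ, N)
  rev : ∃ Q : ℤ, chevB2.commTerms γ δ = [(r, Q, 1, 1)]
  refl : ∀ i < chevB2.rank, ∃ e ∈ b2Long, e.1 = chevB2.reflectRoot i r ∧
    ((e.2.1 = chevB2.reflectRoot i γ ∧ e.2.2.1 = chevB2.reflectRoot i δ) ∨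
      (e.2.1 = chevB2.reflectRoot i δ ∧ e.2.2.1 = chevB2.reflectRoot i γ))

theorem longSpec {r γ δ : ℕ} {N : ℤ} (he : (r, γ, δ, N) ∈ b2Long) : LongSpec r γ δ N := by
  have h := List.all_eq_true.1 b2_long_chk _ he
  simp only [Bool.and_eq_true, decide_eq_true_eq, bne_iff_ne, beq_iff_eq, Bool.or_eq_true,
    Bool.not_eq_true', List.all_eq_true, List.mem_range, List.any_eq_true] at h
  obtain ⟨⟨⟨⟨⟨⟨⟨⟨⟨⟨⟨⟨⟨⟨⟨⟨⟨a1, a2⟩, a3⟩, a4⟩, a5⟩, a6⟩, a7⟩, a8⟩, a9⟩, a10⟩, aq⟩, a11⟩, a12⟩, a13⟩,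
    a14⟩, a15⟩, a16⟩, a17⟩ := h
  exact ⟨a1, a2, a3, a4, a5, a6, a7, a8, a9, a10, a11, a12, a13, a14, a15,
    fun e' he' hre => (a16 e' he').resolve_left (fun hne => hne hre), ⟨_, aq⟩, a17⟩

theorem long_of_not_short {r : ℕ} (hr : r < chevB2.nroots) (hs : ¬ shortB2 r = true) :
    ∃ γ δ N, (r, γ, δ, N) ∈ b2Long := by
  have h := List.all_eq_true.1 b2_long_or_short r (List.mem_range.2 hr)
  simp only [Bool.or_eq_true, List.any_eq_true, beq_iff_eq] at h
  obtain ⟨⟨r', γ, δ, N⟩, he, rfl⟩ := h.resolve_left hs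
  exact ⟨γ, δ, N, he⟩

include hroom in
theorem moved_of_short {r : ℕ} (hs : shortB2 r = true) : Moved chevB2 F r := by
  simp only [shortB2, List.any_eq_true, beq_iff_eq] at hs
  obtain ⟨m, -, hm⟩ := hs
  obtain ⟨l, hl⟩ := exists_chi_ne_room hroom (show dot chevB2 m r ≠ 0 by omega) hm.le
  exact ⟨_, hl⟩

include h3 h30 in
theorem neg_coef_sq {N : ℤ} (h : N.natAbs = 2) : -(N : F) * -(N : F) = 1 := by
  have _ := h3
  rcases Int.natAbs_eq N with e | e <;> rw [e, h] <;> push_cast <;> linear_combination h30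

/-- The lift of a root element of B2. -/
noncomputable def b2X (r : ℕ) (t : F) : E :=
  match b2Long.find? (fun e => e.1 == r) with
  | some e => A.Br e.2.1 e.2.2.1 (-(e.2.2.2 : F) * t) 1
  | none => torX A r t

theorem b2X_long {r γ δ : ℕ} {N : ℤ} (he : (r, γ, δ, N) ∈ b2Long) (t : F) :
    b2X A r t = A.Br γ δ (-(N : F) * t) 1 := by
  have hs := longSpec he
  unfold b2X
  cases hfind : b2Long.find? (fun e => e.1 == r) with
  | none =>
    rw [List.find?_eq_none] at hfind
    exact absurd (beq_iff_eq.2 rfl) (hfind _ he)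
  | some e =>
    obtain rfl := hs.uniq e (List.mem_of_find?_eq_some hfind)
      (beq_iff_eq.1 (List.find?_some (p := fun e : ℕ × ℕ × ℕ × ℤ => e.1 == r) hfind))
    rfl

theorem b2X_short {r : ℕ} (hs : shortB2 r = true) (t : F) : b2X A r t = torX A r t := by
  unfold b2X
  cases hfind : b2Long.find? (fun e => e.1 == r) with
  | none => rfl
  | some e =>
    obtain ⟨r', γ, δ, N⟩ := e
    have he := List.mem_of_find?_eq_some hfind
    obtain rfl : r' = r :=
      beq_iff_eq.1 (List.find?_some (p := fun e : ℕ × ℕ × ℕ × ℤ => e.1 == r) hfind)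
    rw [(longSpec he).long] at hs
    exact absurd hs Bool.false_ne_true

theorem b2X_ge {r : ℕ} (hr : ¬ r < chevB2.nroots) (t : F) : b2X A r t = torX A r t := by
  unfold b2X
  cases hfind : b2Long.find? (fun e => e.1 == r) with
  | none => rfl
  | some e =>
    obtain ⟨r', γ, δ, N⟩ := e
    obtain rfl : r' = r :=
      beq_iff_eq.1 (List.find?_some (p := fun e : ℕ × ℕ × ℕ × ℤ => e.1 == r) hfind)
    exact absurd (longSpec (List.mem_of_find?_eq_some hfind)).hr hr

theorem θ_long {r γ δ : ℕ} {N : ℤ} (he : (r, γ, δ, N) ∈ b2Long) (a b : F) :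
    A.θ (A.Br γ δ a b) = xG facts_chevB2 r (-(N : F) * a * b) := by
  have hs := longSpec he
  have e := xG_comm facts_chevB2 hs.hδ hs.hγ hs.ne.symm hs.ne_neg' b a
  rw [ChevalleyDatum.commWord, hs.terms] at e
  simp only [List.map_cons, List.map_nil, wordG, List.prod_cons, List.prod_nil, mul_one,
    pow_one] at e
  rw [A.θ_Br, commutatorElement_def, e]
  have g1 := A.imgComm_of_comR hs.hγ hs.hr hs.cγ
  have g2 := A.imgComm_of_comR hs.hδ hs.hr hs.cδ
  set w := xG facts_chevB2 r ((N : F) * -b * a) with hw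
  have hw1 : Commute (xG facts_chevB2 γ a)⁻¹ w := (g1 a _).inv_left
  have hw2 : Commute (xG facts_chevB2 δ b) w := g2 b _
  rw [show -(N : F) * a * b = (N : F) * -b * a by ring, ← hw]
  calc xG facts_chevB2 δ b * xG facts_chevB2 γ a * w * (xG facts_chevB2 γ a)⁻¹ *
        (xG facts_chevB2 δ b)⁻¹
      = xG facts_chevB2 δ b * xG facts_chevB2 γ a * (w * (xG facts_chevB2 γ a)⁻¹) *
          (xG facts_chevB2 δ b)⁻¹ := by group
    _ = xG facts_chevB2 δ b * w * (xG facts_chevB2 δ b)⁻¹ := by rw [← hw1.eq]; group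
    _ = w := by rw [hw2.eq, mul_inv_cancel_right]

include h3 h30 in
theorem θ_b2X (r : ℕ) (t : F) : A.θ (b2X A r t) = xG facts_chevB2 r t := by
  by_cases hr : r < chevB2.nroots
  swap
  · rw [b2X_ge A hr, θ_torX]
  by_cases hs : shortB2 r = true
  · rw [b2X_short A hs, θ_torX]
  · obtain ⟨γ, δ, N, he⟩ := long_of_not_short hr hs
    rw [b2X_long A he, θ_long A he, mul_one, ← mul_assoc, neg_coef_sq h3 h30 (longSpec he).absN,
      one_mul]

include h3 hroom in
theorem long_add {r γ δ : ℕ} {N : ℤ} (he : (r, γ, δ, N) ∈ b2Long) :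
    (∀ a a' b, A.Br γ δ (a + a') b = A.Br γ δ a b * A.Br γ δ a' b) ∧
      ∀ a b b', A.Br γ δ a (b + b') = A.Br γ δ a b * A.Br γ δ a b' := by
  have hs := longSpec he
  have p1 : A.PC γ r := A.PC_of_moves hs.hγ hs.hr (A.imgComm_of_comR hs.hγ hs.hr hs.cγ)
    (hs.pγ.symm.imp (moves_of_sepK hroom) (moves_of_sepK hroom))
  have p2 : A.PC δ r := A.PC_of_moves hs.hδ hs.hr (A.imgComm_of_comR hs.hδ hs.hr hs.cδ)
    (hs.pδ.symm.imp (moves_of_sepK hroom) (moves_of_sepK hroom))
  have p3 : A.PC r r := pc_self_three A h3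
  have hm := θ_long A he (F := F)
  refine ⟨fun a a' b => ?_, fun a b b' => ?_⟩
  · have h1 : A.Br γ δ (a + a') b = ⁅A.lift γ a * A.lift γ a', A.lift δ b⁆ :=
      (A.br_eq_Br (by rw [map_mul, A.θ_lift, A.θ_lift, xG_mul]) (A.θ_lift δ b)).symm
    have h2 : Commute (A.lift γ a) (A.Br γ δ a' b) :=
      CExt.PC.of_map A p1 (A.θ_lift γ a) (hm a' b)
    rw [h1, (CExt.PC.of_map A p3 (hm a b) (hm a' b)).eq, ← mul_inv_eq_iff_eq_mul.2 h2.eq]
    simp only [CExt.Br, commutatorElement_def]; group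
  · have h1 : A.Br γ δ a (b + b') = ⁅A.lift γ a, A.lift δ b * A.lift δ b'⁆ :=
      (A.br_eq_Br (A.θ_lift γ a) (by rw [map_mul, A.θ_lift, A.θ_lift, xG_mul])).symm
    have h2 : Commute (A.lift δ b) (A.Br γ δ a b') :=
      CExt.PC.of_map A p2 (A.θ_lift δ b) (hm a b')
    rw [h1]
    nth_rewrite 1 [← mul_inv_eq_iff_eq_mul.2 h2.eq]
    simp only [CExt.Br, commutatorElement_def]; group

include h3 h30 hroom in
theorem long_eq {r γ δ : ℕ} {N : ℤ} (he : (r, γ, δ, N) ∈ b2Long) {a b t : F}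
    (ht : A.θ (A.Br γ δ a b) = xG facts_chevB2 r t) : A.Br γ δ a b = b2X A r t := by
  have hs := longSpec he
  rw [θ_long A he] at ht
  obtain ⟨hl, hr⟩ := long_add h3 hroom A he
  rw [b2X_long A he, ← xG_inj facts_chevB2 hs.hr ht, ← mul_assoc, ← mul_assoc,
    neg_coef_sq h3 h30 hs.absN, one_mul]
  rcases h3 b with rfl | rfl | rfl
  · have z1 := hr a 0 0
    rw [add_zero] at z1
    have z2 := hl 0 0 (1 : F)
    rw [add_zero] at z2
    rw [mul_zero, left_eq_mul.1 z1, left_eq_mul.1 z2]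
  · rw [mul_one]
  · have z := hr a 0 0
    rw [add_zero] at z
    have z' := hl 0 0 (1 : F)
    rw [add_zero] at z'
    have n1 : A.Br γ δ a (-1) = (A.Br γ δ a 1)⁻¹ := by
      have h1 := hr a 1 (-1)
      rw [add_neg_cancel, left_eq_mul.1 z] at h1
      exact eq_inv_of_mul_eq_one_right h1.symm
    have n2 : A.Br γ δ (-a) 1 = (A.Br γ δ a 1)⁻¹ := by
      have h1 := hl a (-a) 1
      rw [add_neg_cancel, left_eq_mul.1 z'] at h1
      exact eq_inv_of_mul_eq_one_right h1.symm
    rw [mul_neg, mul_one, n1, n2]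

include h3 h30 hroom in
theorem b2X_add {r : ℕ} (hr : r < chevB2.nroots) (t₁ t₂ : F) :
    b2X A r t₁ * b2X A r t₂ = b2X A r (t₁ + t₂) := by
  by_cases hs : shortB2 r = true
  · simp only [b2X_short A hs]
    exact torX_add A hr (moved_of_short hroom hs) (pc_self_three A h3) t₁ t₂
  · obtain ⟨γ, δ, N, he⟩ := long_of_not_short hr hs
    have _ := h30
    simp only [b2X_long A he, mul_add, (long_add h3 hroom A he).1]

include h3 h30 hroom in
theorem long_swap {r γ δ : ℕ} {N : ℤ} (he : (r, γ, δ, N) ∈ b2Long) {a b t : F}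
    (ht : A.θ (A.Br δ γ a b) = xG facts_chevB2 r t) : A.Br δ γ a b = b2X A r t := by
  have hs := longSpec he
  rw [A.Br_swap γ δ] at ht ⊢
  have h1 : A.θ (A.Br γ δ b a) = xG facts_chevB2 r (-t) := by
    rw [← inv_inv (A.θ (A.Br γ δ b a)), ← map_inv, ht, xG_inv]
  rw [long_eq h3 h30 hroom A he h1]
  refine inv_eq_of_mul_eq_one_right ?_
  rw [b2X_add h3 h30 hroom A hs.hr, neg_add_cancel, b2X_long A he, mul_zero]
  have z := (long_add h3 hroom A he).1 0 0 1
  rw [add_zero] at z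
  exact left_eq_mul.1 z

/-- The lifts of the root elements over three elements. -/
noncomputable def b2Sys : Sys A where
  X := b2X A
  θ_X := θ_b2X h3 h30 A
  add _ hr := b2X_add h3 h30 hroom A hr
  equi r hr g c hg t := by
    by_cases hs : shortB2 r = true
    · simp only [b2X_short A hs]
      exact torX_equi A hr (moved_of_short hroom hs) g c hg t
    · obtain ⟨γ, δ, N, he⟩ := long_of_not_short hr hs
      have hsp := longSpec he
      have hθ : A.θ (g * b2X A r t * g⁻¹) = xG facts_chevB2 r ((chiU c r : F) * t) := by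
        rw [map_mul, map_mul, map_inv, θ_b2X h3 h30 A, hg, torusHom_conj facts_chevB2 c hr,
          mul_inv_cancel_right]
      have key : g * b2X A r t * g⁻¹ =
          A.Br γ δ ((chiU c γ : F) * (-(N : F) * t)) ((chiU c δ : F) * 1) := by
        rw [← A.br_eq_Br (x := g * A.lift γ (-(N : F) * t) * g⁻¹) (y := g * A.lift δ 1 * g⁻¹),
          b2X_long A he, CExt.Br]
        · simp only [commutatorElement_def]; group
        · rw [map_mul, map_mul, map_inv, hg, A.θ_lift, torusHom_conj facts_chevB2 c hsp.hγ,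
            mul_inv_cancel_right]
        · rw [map_mul, map_mul, map_inv, hg, A.θ_lift, torusHom_conj facts_chevB2 c hsp.hδ,
            mul_inv_cancel_right]
      rw [key] at hθ ⊢
      exact long_eq h3 h30 hroom A he hθ
  weyl i hi r hr g hg t := by
    by_cases hs : shortB2 r = true
    · have h := List.all_eq_true.1 (List.all_eq_true.1 b2_short_refl i (List.mem_range.2 hi)) r
        (List.mem_range.2 hr)
      rw [hs, Bool.not_true, Bool.false_or] at h
      obtain ⟨v, hv⟩ := torX_weyl A hi hr (moved_of_short hroom hs) (moved_of_short hroom h)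
        (pc_self_three A h3) hg t
      exact ⟨v, by rw [b2X_short A hs, b2X_short A h, hv]⟩
    · obtain ⟨γ, δ, N, he⟩ := long_of_not_short hr hs
      have hsp := longSpec he
      obtain ⟨⟨r', γ', δ', N'⟩, he', hre, hor⟩ := hsp.refl i hi
      simp only at hre hor
      subst hre
      refine ⟨A.eta i r * t, ?_⟩
      have hθ : A.θ (g * b2X A r t * g⁻¹) =
          xG facts_chevB2 (chevB2.reflectRoot i r) (A.eta i r * t) := by
        rw [map_mul, map_mul, map_inv, θ_b2X h3 h30 A, hg, A.conj_xG hi hr]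
      rw [b2X_long A he t, A.Br_refl hi hsp.hγ hsp.hδ hg] at hθ ⊢
      rcases hor with ⟨rfl, rfl⟩ | ⟨rfl, rfl⟩
      · exact long_eq h3 h30 hroom A he' hθ
      · exact long_swap h3 h30 hroom A he' hθ

include h3 h30 hroom in
theorem b2_three_pairs : ∀ a b, half chevB2 ≤ a → a < b → b < chevB2.nroots →
    Sys.PairOK A a b ∨ ((b2Sys h3 h30 hroom A).Rel a b ∧ (b2Sys h3 h30 hroom A).Rel b a) := by
  intro a b ha hab hb
  have hc := b2_pairs
  simp only [List.all_eq_true, List.mem_range, Bool.or_eq_true, decide_eq_true_eq,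
    Bool.and_eq_true, List.any_eq_true, beq_iff_eq, List.isEmpty_iff] at hc
  rcases hc a (hab.trans hb) b hb with ((((e | e) | e) | e) | ⟨⟨e1, e2⟩, hsw⟩) | ⟨⟨r, γ, δ, N⟩, he, hor⟩
  · omega
  · omega
  · exact Or.inl (Or.inl (moves_of_sepK hroom e))
  · exact Or.inl (Or.inr (Or.inl (moves_of_sepK hroom e)))
  · exact Or.inl (Or.inr (Or.inr ⟨e1, e2, pc_of_swap A b2_checks h3 h30 (hab.trans hb) hb hsw⟩))
  refine Or.inr ?_
  have hsp := longSpec he
  have hrel : ∀ p q, p < chevB2.nroots → q < chevB2.nroots → q ≠ p → q ≠ chevB2.neg p →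
      (∃ M : ℤ, chevB2.commTerms p q = [(r, M, 1, 1)]) →
      (∀ a b t, A.θ (A.Br q p a b) = xG facts_chevB2 r t → A.Br q p a b = b2X A r t) →
      (b2Sys h3 h30 hroom A).Rel p q := by
    rintro p q hp hq h1 h2 ⟨M, hM⟩ hu t u
    have hθ := (b2Sys h3 h30 hroom A).θ_lhs hp hq h1 h2 t u
    rw [ChevalleyDatum.commWord, hM] at hθ ⊢
    simp only [List.map_cons, List.map_nil, List.prod_cons, List.prod_nil, mul_one, wordG] at hθ ⊢
    have e : ((b2Sys h3 h30 hroom A).X q u)⁻¹ * ((b2Sys h3 h30 hroom A).X p t)⁻¹ *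
        (b2Sys h3 h30 hroom A).X q u * (b2Sys h3 h30 hroom A).X p t =
        A.Br q p (-u) (-t) := by
      rw [← A.br_eq_Br (x := ((b2Sys h3 h30 hroom A).X q u)⁻¹)
        (y := ((b2Sys h3 h30 hroom A).X p t)⁻¹), commutatorElement_def, inv_inv, inv_inv]
      · rw [map_inv, Sys.θ_X, xG_inv]
      · rw [map_inv, Sys.θ_X, xG_inv]
    rw [e] at hθ ⊢
    exact hu _ _ _ hθ
  obtain ⟨Q, hQ⟩ := hsp.rev
  have r1 := hrel δ γ hsp.hδ hsp.hγ hsp.ne.symm hsp.ne_neg' ⟨N, hsp.terms⟩
    (fun a b t h => long_eq h3 h30 hroom A he h)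
  have r2 := hrel γ δ hsp.hγ hsp.hδ hsp.ne hsp.ne_neg ⟨Q, hQ⟩
    (fun a b t h => long_swap h3 h30 hroom A he h)
  simp only at hor
  rcases hor with ⟨rfl, rfl⟩ | ⟨rfl, rfl⟩
  exacts [⟨r2, r1⟩, ⟨r1, r2⟩]

include h3 h30 in
theorem lift_long {r γ δ : ℕ} {N : ℤ} (he : (r, γ, δ, N) ∈ b2Long) {H : Type w} [Group H]
    (L : Lift facts_chevB2 F H) (j : H →* E) (hj : ∀ g, A.θ (j g) = L.θ g) (t : F) :
    j (L.X r t) = b2X A r t := by
  have hsp := longSpec he
  have hN := neg_coef_sq h3 h30 hsp.absN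
  have e : L.X r t = ⁅L.X γ (-(N : F) * t), L.X δ 1⁆ := by
    have := L.comm δ γ hsp.hδ hsp.hγ hsp.ne.symm hsp.ne_neg' (-1) (-(-(N : F) * t))
    rw [← L.X_inv hsp.hγ, ← L.X_inv hsp.hδ, inv_inv, inv_inv, ChevalleyDatum.commWord, hsp.terms]
      at this
    simp only [List.map_cons, List.map_nil, List.prod_cons, List.prod_nil, mul_one, pow_one,
      neg_neg] at this
    rw [commutatorElement_def, this]
    congr 1
    linear_combination -t * hN
  rw [e, map_commutatorElement,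
    A.br_eq_Br (by rw [hj, L.θ_X]) (by rw [hj, L.θ_X]), b2X_long A he]

include h3 h30 hroom in
/-- Lifts exist and are unique over three elements. -/
theorem b2_lifts_three : LiftsExist.{u, v} facts_chevB2 F ∧
    LiftsUnique.{u, v, w, w'} facts_chevB2 F := by
  refine ⟨fun E _ A => ?_, fun E _ A H _ L j hj H' _ L' j' hj' r t hr => ?_⟩
  · exact ⟨(b2Sys h3 h30 hroom A).span,
      (b2Sys h3 h30 hroom A).toLift (b2_three_pairs h3 h30 hroom A) b2_termsRefl, fun _ => rfl⟩
  by_cases hs : shortB2 r = true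
  · rw [torX_unique A L j hj extra_chevB2 hr (moved_of_short hroom hs) (pc_self_three A h3),
      torX_unique A L' j' hj' extra_chevB2 hr (moved_of_short hroom hs) (pc_self_three A h3)]
  · obtain ⟨γ, δ, N, he⟩ := long_of_not_short hr hs
    rw [lift_long h3 h30 A he L j hj, lift_long h3 h30 A he L' j' hj']

end Cfsg.Agent.ChevExt
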