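import Cfsg.Agent.Chev.Lift
import Cfsg.Agent.Chev.Generation

/-!
Lifting Steinberg's relations (R1), (R2) into a central extension of a Chevalley group: commutators
of lifts, and their behaviour under the fundamental reflections.
-/

set_option autoImplicit false

namespace Cfsg.Agent.ChevExt

open Cfsg.Lie Cfsg.Agent.Chev
open scoped MatrixGroups commutatorElement

universe u v

/-- A central extension of a group containing the root elements. -/
structure CExt {D : ChevalleyDatum} (hF : Facts.{u} D) (F : Type u) [Field F] (E : Type v) [Group E]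
    where
  θ : E →* GL D.Idx F
  central : θ.ker ≤ Subgroup.center E
  surj : ∀ r t, ∃ g, θ g = xG hF r t

namespace CExt

variable {D : ChevalleyDatum} {hF : Facts.{u} D} {F : Type u} [Field F] {E : Type v} [Group E]
  (A : CExt hF F E)

/-- A lift of a root element. -/
noncomputable def lift (r : ℕ) (t : F) : E := (A.surj r t).choose

theorem θ_lift (r : ℕ) (t : F) : A.θ (A.lift r t) = xG hF r t := (A.surj r t).choose_spec

theorem br_indep {a a' b b' : E} (ha : A.θ a = A.θ a') (hb : A.θ b = A.θ b') :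
    ⁅a, b⁆ = ⁅a', b'⁆ := by
  have h1 : a'⁻¹ * a ∈ A.θ.ker := by rw [MonoidHom.mem_ker, map_mul, map_inv, ha, inv_mul_cancel]
  have h2 : b'⁻¹ * b ∈ A.θ.ker := by rw [MonoidHom.mem_ker, map_mul, map_inv, hb, inv_mul_cancel]
  obtain ⟨z, hz, rfl⟩ : ∃ z, z ∈ A.θ.ker ∧ a = a' * z := ⟨_, h1, (mul_inv_cancel_left _ _).symm⟩
  obtain ⟨w, hw, rfl⟩ : ∃ w, w ∈ A.θ.ker ∧ b = b' * w := ⟨_, h2, (mul_inv_cancel_left _ _).symm⟩
  have cz := Subgroup.mem_center_iff.1 (A.central hz)
  have cw := Subgroup.mem_center_iff.1 (A.central hw)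
  calc ⁅a' * z, b' * w⁆ = a' * (z * (b' * w)) * z⁻¹ * a'⁻¹ * w⁻¹ * b'⁻¹ := by
        rw [commutatorElement_def]; group
    _ = a' * ((b' * w) * z) * z⁻¹ * a'⁻¹ * w⁻¹ * b'⁻¹ := by rw [cz (b' * w)]
    _ = a' * b' * (w * a'⁻¹) * w⁻¹ * b'⁻¹ := by group
    _ = a' * b' * (a'⁻¹ * w) * w⁻¹ * b'⁻¹ := by rw [cw a'⁻¹]
    _ = ⁅a', b'⁆ := by rw [commutatorElement_def]; group

theorem mul_ker_comm {z : E} (hz : A.θ z = 1) (g : E) : Commute g z :=
  Subgroup.mem_center_iff.1 (A.central hz) g

/-- The commutator of lifts. -/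
noncomputable def Br (r s : ℕ) (a b : F) : E := ⁅A.lift r a, A.lift s b⁆

theorem θ_Br (r s : ℕ) (a b : F) : A.θ (A.Br r s a b) = ⁅xG hF r a, xG hF s b⁆ := by
  rw [Br, map_commutatorElement, A.θ_lift, A.θ_lift]

theorem br_eq_Br {r s : ℕ} {a b : F} {x y : E} (hx : A.θ x = xG hF r a) (hy : A.θ y = xG hF s b) :
    ⁅x, y⁆ = A.Br r s a b :=
  A.br_indep (by rw [hx, A.θ_lift]) (by rw [hy, A.θ_lift])

/-- The root elements commute. -/
def ImgComm (_A : CExt hF F E) (r s : ℕ) : Prop :=
  ∀ a b : F, Commute (xG hF r a) (xG hF s b)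

/-- Lifts of the root elements commute. -/
def PC (r s : ℕ) : Prop := ∀ a b : F, Commute (A.lift r a) (A.lift s b)

theorem PC.of_map {r s : ℕ} (h : A.PC r s) {a b : F} {x y : E} (hx : A.θ x = xG hF r a)
    (hy : A.θ y = xG hF s b) : Commute x y := by
  rw [← commutatorElement_eq_one_iff_commute, A.br_eq_Br hx hy, Br,
    commutatorElement_eq_one_iff_commute]
  exact h a b

theorem PC.symm {r s : ℕ} (h : A.PC r s) : A.PC s r := fun a b => (h b a).symm

theorem commute_of_bracket {x v w y : E} (hv : Commute (A.θ x) (A.θ v))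
    (hw : Commute (A.θ x) (A.θ w)) (hy : A.θ y = ⁅A.θ v, A.θ w⁆) : Commute x y := by
  have h1 : A.θ (x * v * x⁻¹) = A.θ v := by rw [map_mul, map_mul, map_inv, hv.eq, mul_inv_cancel_right]
  have h2 : A.θ (x * w * x⁻¹) = A.θ w := by rw [map_mul, map_mul, map_inv, hw.eq, mul_inv_cancel_right]
  have h3 : Commute x ⁅v, w⁆ := by
    refine mul_inv_eq_iff_eq_mul.1 (Eq.trans ?_ (A.br_indep h1 h2))
    simp only [commutatorElement_def]; group
  have hz : A.θ (⁅v, w⁆⁻¹ * y) = 1 := by
    rw [map_mul, map_inv, map_commutatorElement, hy, inv_mul_cancel]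
  have := h3.mul_right (A.mul_ker_comm hz x)
  rwa [mul_inv_cancel_left] at this

/-- The sign of the reflection `i` at `r`, in `F`. -/
noncomputable def eta (_A : CExt hF F E) (i r : ℕ) : F := ((etaN hF i r : ℤ) : F)

theorem eta_sq {i r : ℕ} (hi : i < D.rank) (hr : r < D.nroots) : A.eta i r * A.eta i r = 1 :=
  etaN_cast_sq hF hi hr

theorem exists_nS {i : ℕ} : ∃ w : E, A.θ w = nS hF i := by
  refine ⟨A.lift (D.simple i) 1 * A.lift (D.neg (D.simple i)) (-(1 : F)⁻¹) * A.lift (D.simple i) 1, ?_⟩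
  rw [map_mul, map_mul, A.θ_lift, A.θ_lift, nS, nG]

theorem conj_xG {i r : ℕ} (hi : i < D.rank) (hr : r < D.nroots) (a : F) :
    nS hF i * xG hF r a * (nS hF i)⁻¹ = xG hF (D.reflectRoot i r) (A.eta i r * a) :=
  mul_inv_eq_iff_eq_mul.2 (nS_conj_x hF hi hr a)

theorem Br_refl {i r s : ℕ} (hi : i < D.rank) (hr : r < D.nroots) (hs : s < D.nroots) {w : E}
    (hw : A.θ w = nS hF i) (a b : F) :
    w * A.Br r s a b * w⁻¹ =
      A.Br (D.reflectRoot i r) (D.reflectRoot i s) (A.eta i r * a) (A.eta i s * b) := by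
  refine Eq.trans ?_ (A.br_eq_Br (x := w * A.lift r a * w⁻¹) (y := w * A.lift s b * w⁻¹) ?_ ?_)
  · rw [Br]; simp only [commutatorElement_def]; group
  · rw [map_mul, map_mul, map_inv, hw, A.θ_lift, A.conj_xG hi hr]
  · rw [map_mul, map_mul, map_inv, hw, A.θ_lift, A.conj_xG hi hs]

theorem ImgComm.refl {i r s : ℕ} (hi : i < D.rank) (hr : r < D.nroots) (hs : s < D.nroots)
    (h : A.ImgComm r s) : A.ImgComm (D.reflectRoot i r) (D.reflectRoot i s) := by
  intro a b
  have := (h (A.eta i r * a) (A.eta i s * b)).map (MulAut.conj (nS hF i)).toMonoidHom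
  rwa [MulEquiv.coe_toMonoidHom, MulAut.conj_apply, MulAut.conj_apply, A.conj_xG hi hr,
    A.conj_xG hi hs, ← mul_assoc, ← mul_assoc, A.eta_sq hi hr, A.eta_sq hi hs, one_mul,
    one_mul] at this

theorem PC.refl {i r s : ℕ} (hi : i < D.rank) (hr : r < D.nroots) (hs : s < D.nroots)
    (h : A.PC r s) : A.PC (D.reflectRoot i r) (D.reflectRoot i s) := by
  intro a b
  obtain ⟨w, hw⟩ := A.exists_nS (i := i)
  have h1 := A.Br_refl hi hr hs hw (A.eta i r * a) (A.eta i s * b)
  rw [← mul_assoc, ← mul_assoc, A.eta_sq hi hr, A.eta_sq hi hs, one_mul, one_mul, Br,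
    commutatorElement_eq_one_iff_commute.2 (h _ _), mul_one, mul_inv_cancel] at h1
  exact commutatorElement_eq_one_iff_commute.1 h1.symm

/-- All pairs at `r` whose root elements commute have commuting lifts. -/
def CommAt (r : ℕ) : Prop := ∀ s, s < D.nroots → s ≠ D.neg r → A.ImgComm r s → A.PC r s

theorem CommAt.refl {i r : ℕ} (hi : i < D.rank) (hr : r < D.nroots) (h : A.CommAt r) :
    A.CommAt (D.reflectRoot i r) := by
  intro s hs hne hc
  have hs' := hF.refl_lt i hi s hs
  have hr' := hF.refl_lt i hi r hr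
  have h1 : A.ImgComm r (D.reflectRoot i s) := by
    have := ImgComm.refl A hi hr' hs hc
    rwa [hF.refl_refl i hi r hr] at this
  have h2 := PC.refl A hi hr hs' (h _ hs' (fun e => hne (by
    rw [← hF.refl_refl i hi s hs, e, hF.refl_neg i hi r hr])) h1)
  rwa [hF.refl_refl i hi s hs] at h2

/-- The property spreads from a connected diagram to all roots. -/
theorem all_of_node (P : ℕ → Prop) {i₀ : ℕ} (hn : allNodes D [i₀] = true) (hi₀ : i₀ < D.rank)
    (h₀ : P (D.simple i₀)) (hP : ∀ i r, i < D.rank → r < D.nroots → P r → P (D.reflectRoot i r))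
    (hF' : Facts.{u} D) : ∀ r, r < D.nroots → P r := by
  have key : ∀ (n : ℕ) (l : List ℕ), (∀ k ∈ l, k < D.rank ∧ P (D.simple k)) →
      ∀ j ∈ closeNodes D n l, j < D.rank ∧ P (D.simple j) := by
    intro n
    induction n with
    | zero => exact fun l h => h
    | succ n ih =>
      intro l h
      refine ih _ fun j hj => ?_
      rcases List.mem_append.1 hj with hj | hj
      · exact h j hj
      rw [List.mem_filter, List.mem_range, Bool.and_eq_true, List.any_eq_true] at hj
      obtain ⟨hjr, -, k, hk, e⟩ := hj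
      rw [decide_eq_true_eq] at e
      refine ⟨hjr, ?_⟩
      rw [← e]
      exact hP k _ (h k hk).1 (hF'.refl_lt j hjr _ (hF'.simple_lt k (h k hk).1))
        (hP j _ hjr (hF'.simple_lt k (h k hk).1) (h k hk).2)
  simp only [allNodes, List.all_eq_true, decide_eq_true_eq] at hn
  exact hF'.root_induction P (fun j hj => (key D.rank [i₀] (fun k hk => by
      rw [List.mem_singleton] at hk; subst hk; exact ⟨hi₀, h₀⟩) j (hn j (List.mem_range.2 hj))).2)
    (fun i hi r hr h => hP i r hi hr h)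

end CExt

end Cfsg.Agent.ChevExt
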