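import Cfsg.Agent.ChevExt.Torus
import Cfsg.Agent.Chev.Sound
import Mathlib.Algebra.Group.Pi.Lemmas

/-!
Maps of universal groups induced by an inclusion of root systems. If the larger torus is faithful
the torus of the smaller universal group is faithful.
-/

set_option autoImplicit false

namespace Cfsg.Agent.ChevExt

open Cfsg.Lie Cfsg.Agent.Chev
open scoped MatrixGroups

universe u

/-- An inclusion of root systems compatible with the structure constants up to signs. -/
structure RootEmb (D D' : ChevalleyDatum) where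
  f : ℕ → ℕ
  node : ℕ → ℕ
  ε : ℕ → ℤ
  node_lt : ∀ i < D.rank, node i < D'.rank
  node_inj : ∀ i < D.rank, ∀ j < D.rank, node i = node j → i = j
  lt : ∀ r < D.nroots, f r < D'.nroots
  inj : ∀ r < D.nroots, ∀ s < D.nroots, f r = f s → r = s
  simple : ∀ i < D.rank, f (D.simple i) = D'.simple (node i)
  neg : ∀ r < D.nroots, f (D.neg r) = D'.neg (f r)
  sq : ∀ r < D.nroots, ε r * ε r = 1
  ε_neg : ∀ r < D.nroots, ε (D.neg r) = ε r
  terms : ∀ r < D.nroots, ∀ s < D.nroots, s ≠ r → s ≠ D.neg r →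
    D'.commTerms (f r) (f s) = (D.commTerms r s).map fun c =>
      (f c.1, c.2.1 * (ε c.1 * ε r ^ c.2.2.1 * ε s ^ c.2.2.2), c.2.2.1, c.2.2.2)

/-- The quick check of the commutator formulas. -/
noncomputable def termsFast (D D' : ChevalleyDatum) (T T' : Cert) (f : ℕ → ℕ) (ε : ℕ → ℤ)
    (lo n : ℕ) : Bool :=
  allBelow (fun k => force (lo + k) fun r => force (f r) fun fr => allBelow (fun s =>
    Nat.beq s r || Nat.beq s (D.neg r) || force (f s) fun fs =>
      decide (T'.cTerms D' fr fs = (T.cTerms D r s).map fun c =>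
        (f c.1, c.2.1 * (ε c.1 * ε r ^ c.2.2.1 * ε s ^ c.2.2.2), c.2.2.1, c.2.2.2))) D.nroots) n

theorem terms_of_fast {D D' : ChevalleyDatum} {T T' : Cert} (h : Checks D T) (h' : Checks D' T')
    {f : ℕ → ℕ} {ε : ℕ → ℤ} {w : ℕ} (n : ℕ) (hn : D.nroots ≤ n * w)
    (hc : ∀ k < n, termsFast D D' T T' f ε (k * w) w = true) :
    ∀ r < D.nroots, ∀ s < D.nroots, s ≠ r → s ≠ D.neg r →
      D'.commTerms (f r) (f s) = (D.commTerms r s).map fun c =>
        (f c.1, c.2.1 * (ε c.1 * ε r ^ c.2.2.1 * ε s ^ c.2.2.2), c.2.2.1, c.2.2.2) := by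
  intro r hr s hs h1 h2
  have hw : 0 < w := Nat.pos_of_ne_zero fun e => by subst e; simp at hn; omega
  have hk : r / w < n := (Nat.div_lt_iff_lt_mul hw).2 (lt_of_lt_of_le hr hn)
  have hk' := hc _ hk
  simp only [termsFast, allBelow_iff, force_eq] at hk'
  have h3 := hk' (r % w) (Nat.mod_lt _ hw) s hs
  rw [Nat.mul_comm, Nat.div_add_mod] at h3
  simp only [Bool.or_eq_true, nbeq_iff, h1, h2, false_or, decide_eq_true_eq] at h3
  rwa [commTerms_eq h, commTerms_eq h']

variable {D D' : ChevalleyDatum} (E : RootEmb D D') {F : Type u} [Field F]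
  (hF : Facts.{u} D) (hF' : Facts.{u} D')

/-- The sign at a root, in the field. -/
def eps (E : RootEmb D D') (F : Type u) [Field F] (r : ℕ) : F := ((E.ε r : ℤ) : F)

theorem eps_sq {r : ℕ} (hr : r < D.nroots) : eps E F r * eps E F r = 1 := by
  rw [eps, ← Int.cast_mul, E.sq r hr, Int.cast_one]

theorem eps_inv {r : ℕ} (hr : r < D.nroots) : (eps E F r)⁻¹ = eps E F r :=
  inv_eq_of_mul_eq_one_right (eps_sq E hr)

/-- The images of the generators. -/
def embImage (z : Fin D.nroots × F) : GL D'.Idx F :=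
  xG hF' (E.f (z.1 : ℕ)) (eps E F (z.1 : ℕ) * z.2)

theorem lift_embX {r : ℕ} (hr : r < D.nroots) (t : F) :
    FreeGroup.lift (embImage E hF') (D.stX r t) = xG hF' (E.f r) (eps E F r * t) := by
  rw [ChevalleyDatum.stX, dif_pos hr, FreeGroup.lift_apply_of]
  rfl

theorem nG_emb {r : ℕ} (hr : r < D.nroots) (t : F) :
    xG hF' (E.f r) (eps E F r * t) * xG hF' (E.f (D.neg r)) (eps E F (D.neg r) * -t⁻¹) *
      xG hF' (E.f r) (eps E F r * t) = nG hF' (E.f r) (eps E F r * t) := by
  rw [E.neg r hr, nG, show eps E F (D.neg r) = eps E F r by rw [eps, eps, E.ε_neg r hr], mul_inv,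
    eps_inv E hr, mul_neg]

theorem hG_emb {r : ℕ} (hr : r < D.nroots) {t : F} (ht : t ≠ 0) :
    nG hF' (E.f r) (eps E F r * t) * nG hF' (E.f r) (eps E F r * -1) = hG hF' (E.f r) t := by
  have hr' := E.lt r hr
  have he : eps E F r ≠ 0 := left_ne_zero_of_mul_eq_one (eps_sq E hr)
  have e1 : hG hF' (E.f r) (eps E F r * t) * (hG hF' (E.f r) (eps E F r))⁻¹ =
      nG hF' (E.f r) (eps E F r * t) * nG hF' (E.f r) (eps E F r * -1) := by
    rw [hG, hG, mul_inv_rev, nG_inv, nG_inv, neg_neg,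
      show nG hF' (E.f r) (eps E F r * t) * nG hF' (E.f r) (-1) *
        (nG hF' (E.f r) 1 * nG hF' (E.f r) (-eps E F r)) =
        nG hF' (E.f r) (eps E F r * t) * (nG hF' (E.f r) (-1) * nG hF' (E.f r) 1) *
          nG hF' (E.f r) (-eps E F r) by group,
      show nG hF' (E.f r) (-1 : F) * nG hF' (E.f r) 1 = 1 by rw [← nG_inv, inv_mul_cancel],
      mul_one, mul_neg, mul_one]
  rw [← e1, show eps E F r * t = ((Units.mk0 _ he * Units.mk0 t ht : Fˣ) : F) from rfl,
    show hG hF' (E.f r) (eps E F r) = hG hF' (E.f r) ((Units.mk0 _ he : Fˣ) : F) from rfl,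
    show hG hF' (E.f r) t = hG hF' (E.f r) ((Units.mk0 t ht : Fˣ) : F) from rfl,
    hG_eq_torus hF' hr', hG_eq_torus hF' hr', hG_eq_torus hF' hr', ← map_inv, ← map_mul,
    map_mul (coH (E.f r)), mul_comm (coH (E.f r) (Units.mk0 _ he)), mul_inv_cancel_right]

include hF in
theorem lift_embRels : ∀ g ∈ D.steinbergRels F, FreeGroup.lift (embImage E hF') g = 1 := by
  rintro g ((⟨r, t₁, t₂, hr, rfl⟩ | ⟨r, s, t, u, hr, hs, h1, h2, rfl⟩) |
    ⟨r, t₁, t₂, hr, ht₁, ht₂, rfl⟩)
  · simp only [map_mul, map_inv, lift_embX E hF' hr, xG_mul, mul_add, mul_inv_cancel]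
  · have hne : E.f s ≠ E.f r := fun e => h1 (E.inj s hs r hr e)
    have hneg : E.f s ≠ D'.neg (E.f r) := fun e =>
      h2 (E.inj s hs _ (neg_lt hF hr) (e.trans (E.neg r hr).symm))
    have hw : FreeGroup.lift (embImage E hF') (D.stWord (D.commWord F r s t u)) =
        wordG hF' (D'.commWord F (E.f r) (E.f s) (eps E F r * t) (eps E F s * u)) := by
      rw [ChevalleyDatum.commWord, ChevalleyDatum.commWord, E.terms r hr s hs h1 h2]
      simp only [ChevalleyDatum.stWord, wordG, map_list_prod, List.map_map]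
      refine congrArg List.prod (List.map_congr_left fun c hc => ?_)
      refine (lift_embX E hF' (hF.comm_lt r s hr hs c hc) _).trans ?_
      show _ = xG hF' (E.f c.1) (((c.2.1 * (E.ε c.1 * E.ε r ^ c.2.2.1 * E.ε s ^ c.2.2.2) : ℤ) : F) *
        (-(eps E F r * t)) ^ c.2.2.1 * (eps E F s * u) ^ c.2.2.2)
      congr 1
      have a1 : eps E F r ^ c.2.2.1 * eps E F r ^ c.2.2.1 = 1 := by
        rw [← mul_pow, eps_sq E hr, one_pow]
      have a2 : eps E F s ^ c.2.2.2 * eps E F s ^ c.2.2.2 = 1 := by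
        rw [← mul_pow, eps_sq E hs, one_pow]
      rw [← mul_neg, mul_pow, mul_pow]
      push_cast
      simp only [eps] at a1 a2 ⊢
      linear_combination -(((c.2.1 : ℤ) : F) * ((E.ε c.1 : ℤ) : F) * (-t) ^ c.2.2.1 * u ^ c.2.2.2 *
        ((E.ε s : ℤ) : F) ^ c.2.2.2 * ((E.ε s : ℤ) : F) ^ c.2.2.2) * a1 -
        (((c.2.1 : ℤ) : F) * ((E.ε c.1 : ℤ) : F) * (-t) ^ c.2.2.1 * u ^ c.2.2.2) * a2
    simp only [map_mul, map_inv, lift_embX E hF' hr, lift_embX E hF' hs, hw]
    rw [mul_inv_eq_one, mul_assoc _ (xG hF' (E.f s) (eps E F s * u)),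
      xG_comm hF' (E.lt r hr) (E.lt s hs) hne hneg]
    group
  · have hH : ∀ t : F, t ≠ 0 →
        FreeGroup.lift (embImage E hF') (D.stH r t) = hG hF' (E.f r) t := fun t ht => by
      rw [← hG_emb E hF' hr ht, ← nG_emb E hF' hr t,
        ← nG_emb E hF' hr (-1)]
      simp only [ChevalleyDatum.stH, ChevalleyDatum.stWord, ChevalleyDatum.hWord,
        ChevalleyDatum.nWord, List.cons_append, List.nil_append, List.map_cons, List.map_nil,
        List.prod_cons, List.prod_nil, mul_one, map_mul, lift_embX E hF' hr,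
        lift_embX E hF' (neg_lt hF hr), mul_assoc]
    rw [map_mul, map_mul, map_inv, hH _ ht₁, hH _ ht₂, hH _ (mul_ne_zero ht₁ ht₂), mul_inv_eq_one]
    have a : t₁ = ((Units.mk0 t₁ ht₁ : Fˣ) : F) := rfl
    have b : t₂ = ((Units.mk0 t₂ ht₂ : Fˣ) : F) := rfl
    have hr' := E.lt r hr
    rw [a, b, ← Units.val_mul, hG_eq_torus hF' hr', hG_eq_torus hF' hr', hG_eq_torus hF' hr',
      map_mul, map_mul]

/-- The map of the universal group of the smaller datum. -/
def embHom : D.SteinbergGroup F →* GL D'.Idx F :=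
  PresentedGroup.toGroup (lift_embRels E hF hF')

theorem embHom_X {r : ℕ} (hr : r < D.nroots) (t : F) :
    embHom E hF hF' ((stLift hF).X r t) = xG hF' (E.f r) (eps E F r * t) :=
  lift_embX E hF' hr t

theorem embHom_h (i : Fin D.rank) {t : F} (ht : t ≠ 0) :
    embHom E hF hF' ((stLift hF).h (D.simple i) t) = hG hF' (D'.simple (E.node i)) t := by
  have hr := hF.simple_lt i i.2
  rw [← E.simple i i.2, ← hG_emb E hF' hr ht, ← nG_emb E hF' hr t,
    ← nG_emb E hF' hr (-1)]
  simp only [Lift.h, Lift.n, map_mul, embHom_X E hF hF' hr, embHom_X E hF hF' (neg_lt hF hr)]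

include E hF' in
theorem hTor_injective (hE : Extra D)
    (hinj : Function.Injective (torusHom : (Fin D'.rank → Fˣ) →* GL D'.Idx F)) :
    Function.Injective (hTor (stLift hF (F := F)) hE (stLift_hMul hF)) := by
  classical
  let ι : Fin D.rank → Fin D'.rank := fun i => ⟨E.node i, E.node_lt i i.2⟩
  let ext : (Fin D.rank → Fˣ) →* (Fin D'.rank → Fˣ) := Function.ExtendByOne.hom Fˣ ι
  have hι : Function.Injective ι := fun i j e =>
    Fin.ext (E.node_inj i i.2 j j.2 (congrArg Fin.val e))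
  have key : (embHom E hF hF').comp (hTor (stLift hF (F := F)) hE (stLift_hMul hF)) =
      torusHom.comp ext := by
    refine hom_ext_single fun i a => ?_
    have hs : ext (Pi.mulSingle i a) = Pi.mulSingle (ι i) a := by
      funext j
      by_cases hj : ∃ k, ι k = j
      · obtain ⟨k, rfl⟩ := hj
        show Function.extend ι (Pi.mulSingle i a) 1 (ι k) = _
        rw [hι.extend_apply]
        by_cases hk : k = i
        · subst hk; simp
        · rw [Pi.mulSingle_eq_of_ne hk, Pi.mulSingle_eq_of_ne (hι.ne hk)]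
      · show Function.extend ι (Pi.mulSingle i a) 1 j = _
        rw [Function.extend_apply' _ _ _ hj,
          Pi.mulSingle_eq_of_ne fun e => hj ⟨i, e.symm⟩, Pi.one_apply]
    rw [MonoidHom.comp_apply, MonoidHom.comp_apply, hTor_single,
      embHom_h E hF hF' i (Units.ne_zero a), hs,
      show D'.simple (E.node i) = D'.simple (ι i) from rfl, hG_simple hF' (ι i).2,
      coH_simple hF' (ι i).2]
  intro a b e
  have h1 : ext a = ext b := hinj (by
    have := congrArg (embHom E hF hF') e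
    rwa [← MonoidHom.comp_apply, ← MonoidHom.comp_apply, key] at this)
  funext k
  have := congrFun h1 (ι k)
  change Function.extend ι a 1 (ι k) = Function.extend ι b 1 (ι k) at this
  rwa [hι.extend_apply, hι.extend_apply] at this

end Cfsg.Agent.ChevExt
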