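import Cfsg.Agent.ChevExt.Data.SmallD4
import Cfsg.Agent.ChevExt.Data.SmallF4
import Cfsg.Agent.ChevExt.Data.TorD4
import Cfsg.Agent.ChevExt.Data.TorF4

/-!
Lifts for the types D4 and F4 over finite fields with more than two elements.
-/

set_option autoImplicit false

namespace Cfsg.Agent.ChevExt

open Cfsg.Lie Cfsg.Agent.Chev

universe u v w w'

variable {F : Type u} [Field F] [Fintype F]

theorem f4_lifts (hq : 3 ≤ Fintype.card F) :
    LiftsExist.{u, v} facts_chevF4 F ∧ LiftsUnique.{u, v, w, w'} facts_chevF4 F := by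
  rcases (show Fintype.card F = 3 ∨ Fintype.card F = 4 ∨ 4 < Fintype.card F by omega) with h | h | h
  · obtain ⟨hr, h3, h30⟩ := room_three h
    exact lifts_small f4_checks extra_chevF4 hr f43_move f43_pairs f4_termsRefl
      (fun E _ A r _ => pc_self_three A h3) (Or.inr ⟨h3, h30⟩)
  · obtain ⟨hr, h2⟩ := room_four h
    refine lifts_small f4_checks extra_chevF4 hr f44_move f44_pairs f4_termsRefl
      (fun E _ A r hrn => pc_of_brackK A hr (two := true) (fun _ => h2) (cands := f44Cands)
        (p := f44Brs.getD r (0, 0)) hrn ?_) (Or.inl rfl)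
    have := f44_bracks
    rw [List.all_eq_true] at this
    exact this r (List.mem_range.2 hrn)
  · exact ⟨liftsExist_of_torus torF4 (exists_finset_card h),
      liftsUnique_of_torus torF4 extra_chevF4 (exists_finset_card h)⟩

theorem d4_lifts (hq : 3 ≤ Fintype.card F) :
    LiftsExist.{u, v} facts_chevD4 F ∧ LiftsUnique.{u, v, w, w'} facts_chevD4 F := by
  rcases (show Fintype.card F = 3 ∨ Fintype.card F = 4 ∨ 4 < Fintype.card F by omega) with h | h | h
  · obtain ⟨hr, h3, h30⟩ := room_three h
    exact lifts_small d4_checks extra_chevD4 hr d43_move d43_pairs d4_termsRefl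
      (fun E _ A r _ => pc_self_three A h3) (Or.inr ⟨h3, h30⟩)
  · obtain ⟨hr, h2⟩ := room_four h
    refine lifts_small d4_checks extra_chevD4 hr d44_move d44_pairs d4_termsRefl
      (fun E _ A r hrn => pc_of_brackK A hr (two := true) (fun _ => h2) (cands := d44Cands)
        (p := d44Brs.getD r (0, 0)) hrn ?_) (Or.inl rfl)
    have := d44_bracks
    rw [List.all_eq_true] at this
    exact this r (List.mem_range.2 hrn)
  · exact ⟨liftsExist_of_torus torD4 (exists_finset_card h),
      liftsUnique_of_torus torD4 extra_chevD4 (exists_finset_card h)⟩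

end Cfsg.Agent.ChevExt
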