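import Cfsg.Agent.ChevExt.B2Three
import Cfsg.Agent.ChevExt.F4D4
import Cfsg.Agent.ChevExt.Data.TorB2
import Cfsg.Agent.ChevExt.Data.EmbB2
import Cfsg.Agent.ChevExt.Data.EmbD4
import Cfsg.Agent.ChevExt.Embed
import Cfsg.Agent.Chev.SimpleAll

/-!
The universal groups of type B2 and D4 over finite fields with more than two elements.
-/

set_option autoImplicit false

namespace Cfsg.Agent.ChevExt

open Cfsg.Lie Cfsg.Agent.Chev

universe u v w w'

variable {F : Type u} [Field F] [Fintype F]

theorem b2_lifts (hq : 3 ≤ Fintype.card F) :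
    LiftsExist.{u, v} facts_chevB2 F ∧ LiftsUnique.{u, v, w, w'} facts_chevB2 F := by
  rcases (show Fintype.card F = 3 ∨ Fintype.card F = 4 ∨ 4 < Fintype.card F by omega) with h | h | h
  · obtain ⟨hr, h3, h30⟩ := room_three h
    exact b2_lifts_three h3 h30 hr
  · obtain ⟨hr, h2⟩ := room_four h
    refine lifts_small b2_checks extra_chevB2 hr b24_move b24_pairs b2_termsRefl
      (fun E _ A r hrn => pc_of_brackK A hr (two := true) (fun _ => h2) (cands := b24Cands)
        (p := b24Brs.getD r (0, 0)) hrn ?_) (Or.inl rfl)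
    have := b24_bracks
    rw [List.all_eq_true] at this
    exact this r (List.mem_range.2 hrn)
  · exact ⟨liftsExist_of_torus torB2 (exists_finset_card h),
      liftsUnique_of_torus torB2 extra_chevB2 (exists_finset_card h)⟩

omit [Fintype F] in
theorem b2_hTor_injective : Function.Injective
    (hTor (stLift facts_chevB2 (F := F)) extra_chevB2 (stLift_hMul facts_chevB2)) :=
  hTor_injective embB2 facts_chevB2 facts_chevF4 extra_chevB2
    (torusHom_injective f4_checks facts_chevF4 f4_smith (by decide))

omit [Fintype F] in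
theorem d4_hTor_injective : Function.Injective
    (hTor (stLift facts_chevD4 (F := F)) extra_chevD4 (stLift_hMul facts_chevD4)) :=
  hTor_injective embD4 facts_chevD4 facts_chevE8 extra_chevD4
    (torusHom_injective e8_checks facts_chevE8 e8_smith (by decide))

theorem exists_ne_zero_one (hq : 3 ≤ Fintype.card F) : ∃ x : F, x ≠ 0 ∧ x ≠ 1 := by
  classical
  obtain ⟨x, hx⟩ := Finset.exists_mem_notMem_of_card_lt_card (s := ({0, 1} : Finset F))
    (t := Finset.univ) (by
      rw [Finset.card_univ]
      exact lt_of_le_of_lt Finset.card_le_two (by omega))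
  simp only [Finset.mem_insert, Finset.mem_singleton, not_or] at hx
  exact ⟨x, hx.2⟩

theorem b2_multiplier_st (hq : 3 ≤ Fintype.card F) :
    Cfsg.HasCyclicSchurMultiplier (chevB2.SteinbergGroup F) 1 :=
  multiplier_st (b2_lifts.{u, u, u, u} hq).1 (b2_lifts.{u, u, u, u} hq).2 extra_chevB2
    ((stLift facts_chevB2).commutator_eq_top extra_chevB2 (fun _ => exists_ne_zero_one hq)
      b2_perfect_chk)
    b2_hTor_injective

theorem d4_multiplier_st (hq : 3 ≤ Fintype.card F) :
    Cfsg.HasCyclicSchurMultiplier (chevD4.SteinbergGroup F) 1 :=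
  multiplier_st (d4_lifts.{u, u, u, u} hq).1 (d4_lifts.{u, u, u, u} hq).2 extra_chevD4
    ((stLift facts_chevD4).commutator_eq_top extra_chevD4 (fun e => Bool.noConfusion e)
      d4_perfect_chk)
    d4_hTor_injective

end Cfsg.Agent.ChevExt
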