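import Cfsg.Agent.ChevExt.Provide

/-!
The group of (R1), (R2) is centrally closed when lifts exist and are unique.
-/

set_option autoImplicit false

namespace Cfsg.Agent.ChevExt

open Cfsg.Lie Cfsg.Agent.Chev
open scoped MatrixGroups commutatorElement

universe u v w

variable {D : ChevalleyDatum} {hF : Facts.{u} D} {F : Type u} [Field F]

/-- The relations (R1), (R2) hold in a lift. -/
theorem lift_rels {H : Type v} [Group H] (L : Lift hF F H) :
    ∀ g ∈ D.steinbergRelsAB F,
      FreeGroup.lift (fun z : Fin D.nroots × F => L.X (z.1 : ℕ) z.2) g = 1 := by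
  have hX : ∀ r, r < D.nroots → ∀ t,
      FreeGroup.lift (fun z : Fin D.nroots × F => L.X (z.1 : ℕ) z.2) (D.stX r t) = L.X r t :=
    fun r hr t => by rw [ChevalleyDatum.stX, dif_pos hr, FreeGroup.lift_apply_of]
  rintro g (⟨r, t₁, t₂, hr, rfl⟩ | ⟨r, s, t, u, hr, hs, h1, h2, rfl⟩)
  · simp only [map_mul, map_inv, hX r hr, L.add r hr, mul_inv_cancel]
  · have hw : FreeGroup.lift (fun z : Fin D.nroots × F => L.X (z.1 : ℕ) z.2)
        (D.stWord (D.commWord F r s t u)) =
        ((D.commWord F r s t u).map fun p => L.X p.1 p.2).prod := by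
      simp only [ChevalleyDatum.stWord, map_list_prod, List.map_map]
      refine congrArg List.prod (List.map_congr_left fun p hp => ?_)
      obtain ⟨c, hc, rfl⟩ := List.mem_map.1 hp
      exact hX _ (hF.comm_lt r s hr hs c hc) _
    simp only [map_mul, map_inv, hX r hr, hX s hs, hw]
    rw [mul_inv_eq_one]
    exact L.comm r s hr hs h1 h2 t u

/-- The map of the group of (R1), (R2) given by a lift. -/
def scHom {H : Type v} [Group H] (L : Lift hF F H) : D.SteinbergCover F →* H :=
  PresentedGroup.toGroup (lift_rels L)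

theorem scHom_X {H : Type v} [Group H] (L : Lift hF F H) {r : ℕ} (hr : r < D.nroots) (t : F) :
    scHom L ((scLift hF).X r t) = L.X r t := by
  show FreeGroup.lift _ (D.stX r t) = _
  rw [ChevalleyDatum.stX, dif_pos hr, FreeGroup.lift_apply_of]

theorem scHom_ext {M : Type v} [Group M] {f g : D.SteinbergCover F →* M}
    (h : ∀ r < D.nroots, ∀ t, f ((scLift hF).X r t) = g ((scLift hF).X r t)) : f = g := by
  refine MonoidHom.eq_of_eqOn_dense (scLift hF (F := F)).gen ?_
  rintro _ ⟨r, t, hr, rfl⟩
  exact h r hr t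

/-- Central extensions split uniquely over the group of (R1), (R2). -/
theorem cover_universal {G₁ : Type v} {E : Type w} [Group G₁] [Group E]
    (hex : LiftsExist.{u, max u w} hF F) (huniq : LiftsUnique.{u, u, max u w, u} hF F)
    (hE : Extra D) (hp : commutator (D.SteinbergCover F) = ⊤)
    (π : E →* G₁) (hπ : Function.Surjective π) (hc : π.ker ≤ Subgroup.center E)
    (σ : D.SteinbergCover F →* G₁) : ∃! τ : D.SteinbergCover F →* E, π.comp τ = σ := by
  set Ls := scLift hF (F := F)
  let P : Subgroup (D.SteinbergCover F × E) :=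
    (σ.comp (MonoidHom.fst _ _)).eqLocus (π.comp (MonoidHom.snd _ _))
  let p : P →* D.SteinbergCover F := (MonoidHom.fst _ _).comp P.subtype
  have hpsurj : Function.Surjective p := fun d => by
    obtain ⟨e, he⟩ := hπ (σ d)
    exact ⟨⟨(d, e), he.symm⟩, rfl⟩
  have hpker : p.ker ≤ Subgroup.center P := by
    intro x hx
    rw [Subgroup.mem_center_iff]
    intro y
    have h1 : (x : D.SteinbergCover F × E).1 = 1 := hx
    have h2 : (x : D.SteinbergCover F × E).2 ∈ Subgroup.center E := hc (by
      rw [MonoidHom.mem_ker]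
      have := x.2
      change σ (x : D.SteinbergCover F × E).1 = π (x : D.SteinbergCover F × E).2 at this
      rw [← this, h1, map_one])
    refine Subtype.ext (Prod.ext ?_ ?_)
    · show (y : D.SteinbergCover F × E).1 * (x : D.SteinbergCover F × E).1 =
        (x : D.SteinbergCover F × E).1 * (y : D.SteinbergCover F × E).1
      rw [h1, mul_one, one_mul]
    · exact Subgroup.mem_center_iff.1 h2 _
  -- the derived group of the pullback is perfect and still maps onto
  let Γ : Subgroup P := commutator P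
  have hmapΓ : Γ.map p = ⊤ := by
    rw [show Γ = commutator P from rfl, commutator_def, Subgroup.map_commutator,
      Subgroup.map_top_of_surjective p hpsurj, ← commutator_def, hp]
  have hdec : ∀ x : P, ∃ y ∈ Γ, ∃ z ∈ Subgroup.center P, x = y * z := fun x => by
    obtain ⟨y, hy, hxy⟩ := (hmapΓ ▸ Subgroup.mem_top (p x) : p x ∈ Γ.map p)
    exact ⟨y, hy, y⁻¹ * x, hpker (by rw [MonoidHom.mem_ker, map_mul, map_inv, hxy, inv_mul_cancel]),
      by group⟩
  have hΓperf : commutator Γ = ⊤ := by
    apply Subgroup.map_injective (f := Γ.subtype) Γ.subtype_injective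
    rw [← MonoidHom.range_eq_map, Subgroup.range_subtype, commutator_def, Subgroup.map_commutator,
      ← MonoidHom.range_eq_map, Subgroup.range_subtype]
    refine le_antisymm ((Subgroup.commutator_mono le_top le_top).trans (commutator_def P).ge) ?_
    show commutator P ≤ ⁅Γ, Γ⁆
    rw [commutator_def, Subgroup.commutator_le]
    intro a _ b _
    obtain ⟨a', ha', z, hz, rfl⟩ := hdec a
    obtain ⟨b', hb', z', hz', rfl⟩ := hdec b
    have cz := Subgroup.mem_center_iff.1 hz
    have cz' := Subgroup.mem_center_iff.1 hz'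
    have e : ⁅a' * z, b' * z'⁆ = ⁅a', b'⁆ := by
      calc ⁅a' * z, b' * z'⁆ = a' * (z * (b' * z')) * z⁻¹ * a'⁻¹ * z'⁻¹ * b'⁻¹ := by
            rw [commutatorElement_def]; group
        _ = a' * b' * (z' * a'⁻¹) * z'⁻¹ * b'⁻¹ := by rw [← cz (b' * z')]; group
        _ = a' * b' * (a'⁻¹ * z') * z'⁻¹ * b'⁻¹ := by rw [cz' a'⁻¹]
        _ = ⁅a', b'⁆ := by rw [commutatorElement_def]; group
    rw [e]
    exact Subgroup.commutator_mem_commutator ha' hb'
  let q : Γ →* D.SteinbergCover F := p.comp Γ.subtype
  have hqsurj : Function.Surjective q := fun d => by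
    obtain ⟨y, hy, e⟩ := (hmapΓ ▸ Subgroup.mem_top d : d ∈ Γ.map p)
    exact ⟨⟨y, hy⟩, e⟩
  have hqker : q.ker ≤ Subgroup.center Γ := fun x hx => by
    rw [Subgroup.mem_center_iff]
    exact fun y => Subtype.ext (Subgroup.mem_center_iff.1 (hpker hx) (y : P))
  let A : CExt hF F Γ :=
    { θ := Ls.θ.comp q
      central := ker_comp_central q hqker hΓperf _ (Ls.ker_le_center hE)
      surj := fun r t => by
        obtain ⟨x, hx⟩ := hqsurj (Ls.X r t)
        exact ⟨x, by rw [MonoidHom.comp_apply, hx, Ls.θ_X]⟩ }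
  let B : CExt hF F (D.SteinbergCover F) :=
    { θ := Ls.θ
      central := Ls.ker_le_center hE
      surj := fun r t => ⟨Ls.X r t, Ls.θ_X r t⟩ }
  obtain ⟨S, L, hL⟩ := hex Γ A
  have hX : ∀ r < D.nroots, ∀ t, q (L.X r t : Γ) = Ls.X r t := fun r hr t =>
    huniq _ B S L (q.comp S.subtype) (fun g => (hL g).symm) _ Ls (MonoidHom.id _) (fun _ => rfl) r t hr
  let s : D.SteinbergCover F →* P := Γ.subtype.comp (S.subtype.comp (scHom L))
  have hs : p.comp s = MonoidHom.id _ := scHom_ext (hF := hF) fun r hr t => by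
    show q (scHom L (Ls.X r t) : Γ) = Ls.X r t
    rw [scHom_X L hr, hX r hr]
  refine ⟨(MonoidHom.snd _ _).comp (P.subtype.comp s), MonoidHom.ext fun d => ?_, ?_⟩
  · have := (s d).2
    change σ (s d : D.SteinbergCover F × E).1 = π (s d : D.SteinbergCover F × E).2 at this
    show π (s d : D.SteinbergCover F × E).2 = σ d
    rw [← this]
    exact congrArg σ (DFunLike.congr_fun hs d)
  · intro τ hτ
    set τ₀ := (MonoidHom.snd _ _).comp (P.subtype.comp s)
    have hτ₀ : ∀ d, π (τ₀ d) = σ d := fun d => by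
      have := (s d).2
      change σ (s d : D.SteinbergCover F × E).1 = π (s d : D.SteinbergCover F × E).2 at this
      show π (s d : D.SteinbergCover F × E).2 = σ d
      rw [← this]
      exact congrArg σ (DFunLike.congr_fun hs d)
    have hz : ∀ d, (τ₀ d)⁻¹ * τ d ∈ Subgroup.center E := fun d => hc (by
      rw [MonoidHom.mem_ker, map_mul, map_inv, hτ₀, ← MonoidHom.comp_apply, hτ, inv_mul_cancel])
    let χ : D.SteinbergCover F →* E :=
      { toFun := fun d => (τ₀ d)⁻¹ * τ d
        map_one' := by simp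
        map_mul' := fun a b => by
          rw [map_mul, map_mul, mul_inv_rev,
            show (τ₀ b)⁻¹ * (τ₀ a)⁻¹ * (τ a * τ b) = (τ₀ b)⁻¹ * ((τ₀ a)⁻¹ * τ a) * τ b by group,
            Subgroup.mem_center_iff.1 (hz a) (τ₀ b)⁻¹]
          group }
    have hle : commutator (D.SteinbergCover F) ≤ χ.ker := by
      rw [commutator_def, Subgroup.commutator_le]
      intro a _ b _
      rw [MonoidHom.mem_ker, map_commutatorElement, commutatorElement_eq_one_iff_commute]
      exact Subgroup.mem_center_iff.1 (hz b) _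
    refine MonoidHom.ext fun d => (inv_mul_eq_one.1 ?_).symm
    exact hle (hp ▸ Subgroup.mem_top d)

end Cfsg.Agent.ChevExt
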