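import Cfsg.Agent.ChevExt.Torus
import Cfsg.Agent.Chev.Weyl

/-!
Lifts of the root elements which the preimages of the torus permute as in the group satisfy the
relation (R2) as soon as every pair of positive roots can be separated by the torus.
-/

set_option autoImplicit false

namespace Cfsg.Agent.ChevExt

open Cfsg.Lie Cfsg.Agent.Chev
open scoped MatrixGroups commutatorElement

universe u v

variable {D : ChevalleyDatum} {hF : Facts.{u} D} {F : Type u} [Field F] {E : Type v} [Group E]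

namespace CExt

variable (A : CExt hF F E)

theorem group_le_range : D.group F ≤ A.θ.range := by
  refine (Subgroup.closure_le _).2 ?_
  rintro g ⟨r, t, e⟩
  obtain ⟨x, hx⟩ := A.surj r t
  exact ⟨x, hx.trans (Units.ext (by rw [xG_val, ChevalleyDatum.x, dif_pos r.2, e]))⟩

theorem exists_tor (c : Fin D.rank → Fˣ) : ∃ g, A.θ g = torusHom c := by
  refine A.group_le_range ?_
  refine Subgroup.pi_mem_of_mulSingle_mem (H := (D.group F).comap torusHom) c fun i => ?_
  rw [Subgroup.mem_comap, ← coH_simple hF i.2, ← hG_simple hF i.2, hG, nG, nG]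
  have h := fun r t => xG_mem_group hF r t (F := F)
  exact Subgroup.mul_mem _ (Subgroup.mul_mem _ (Subgroup.mul_mem _ (h _ _) (h _ _)) (h _ _))
    (Subgroup.mul_mem _ (Subgroup.mul_mem _ (h _ _) (h _ _)) (h _ _))

end CExt

/-- Some torus element fixes the root elements of `b` and moves those of `a`. -/
def Moves (D : ChevalleyDatum) (F : Type u) [Field F] (b a : ℕ) : Prop :=
  ∃ c : Fin D.rank → Fˣ, chiU (D := D) c b = 1 ∧ chiU (D := D) c a ≠ 1

/-- Reflections carry the roots of a commutator to those of the reflected commutator. -/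
def TermsRefl (D : ChevalleyDatum) : Prop :=
  ∀ i < D.rank, ∀ r < D.nroots, ∀ s < D.nroots, s ≠ r → s ≠ D.neg r →
    ∀ c ∈ D.commTerms r s, D.reflectRoot i c.1 ∈
      (D.commTerms (D.reflectRoot i r) (D.reflectRoot i s)).map Prod.fst

/-- Lifts of the root elements, additive and compatible with torus and fundamental reflections. -/
structure Sys (A : CExt hF F E) where
  X : ℕ → F → E
  θ_X : ∀ r t, A.θ (X r t) = xG hF r t
  add : ∀ r, r < D.nroots → ∀ t₁ t₂, X r t₁ * X r t₂ = X r (t₁ + t₂)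
  equi : ∀ r, r < D.nroots → ∀ (g : E) (c : Fin D.rank → Fˣ), A.θ g = torusHom c → ∀ t,
    g * X r t * g⁻¹ = X r ((chiU c r : F) * t)
  weyl : ∀ i < D.rank, ∀ r, r < D.nroots → ∀ g : E, A.θ g = nS hF i → ∀ t,
    ∃ v, g * X r t * g⁻¹ = X (D.reflectRoot i r) v

namespace Sys

variable {A : CExt hF F E} (S : Sys A)

theorem X_zero {r : ℕ} (hr : r < D.nroots) : S.X r 0 = 1 :=
  mul_eq_left.1 (by rw [S.add r hr, add_zero] : S.X r 0 * S.X r 0 = S.X r 0)

theorem X_inv {r : ℕ} (hr : r < D.nroots) (t : F) : (S.X r t)⁻¹ = S.X r (-t) :=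
  inv_eq_of_mul_eq_one_right (by rw [S.add r hr, add_neg_cancel, S.X_zero hr])

/-- Commutators with preimages of torus elements. -/
theorem comm_tor {r : ℕ} (hr : r < D.nroots) {g y : E} {c : Fin D.rank → Fˣ} {s : F}
    (hg : A.θ g = torusHom c) (hy : A.θ y = xG hF r s) :
    ⁅g, y⁆ = S.X r (((chiU c r : F) - 1) * s) := by
  rw [A.br_indep (a' := g) (b' := S.X r s) rfl (by rw [hy, S.θ_X]), commutatorElement_def,
    S.equi r hr g c hg, S.X_inv hr, S.add r hr]
  congr 1; ring

/-- The relation (R2) at a pair of roots. -/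
def Rel (r s : ℕ) : Prop := ∀ t u : F,
  (S.X s u)⁻¹ * (S.X r t)⁻¹ * S.X s u * S.X r t =
    ((D.commWord F r s t u).map fun p => S.X p.1 p.2).prod

/-- The subgroup of the roots in `T`. -/
def sub (T : ℕ → Prop) : Subgroup E :=
  Subgroup.closure {g | ∃ (r : ℕ) (t : F), r < D.nroots ∧ T r ∧ g = S.X r t}

theorem X_mem {T : ℕ → Prop} {r : ℕ} (hr : r < D.nroots) (hT : T r) (t : F) :
    S.X r t ∈ S.sub T := Subgroup.subset_closure ⟨r, t, hr, hT, rfl⟩

theorem word_mem {T : ℕ → Prop} {r s : ℕ} (hr : r < D.nroots) (hs : s < D.nroots)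
    (hT : ∀ c ∈ D.commTerms r s, T c.1) (t u : F) :
    ((D.commWord F r s t u).map fun p => S.X p.1 p.2).prod ∈ S.sub T :=
  Subgroup.list_prod_mem _ fun x hx => by
    obtain ⟨p, hp, rfl⟩ := List.mem_map.1 hx
    obtain ⟨c, hc, rfl⟩ := List.mem_map.1 hp
    exact S.X_mem (hF.comm_lt r s hr hs c hc) (hT c hc) _

theorem conj_tor_mem {T : ℕ → Prop} {g : E} {c : Fin D.rank → Fˣ} (hg : A.θ g = torusHom c)
    {z : E} (hz : z ∈ S.sub T) : g * z * g⁻¹ ∈ S.sub T := by
  have hle : S.sub T ≤ (S.sub T).comap (MulAut.conj g).toMonoidHom := by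
    refine (Subgroup.closure_le _).2 ?_
    rintro _ ⟨r, t, hr, hT, rfl⟩
    show g * S.X r t * g⁻¹ ∈ S.sub T
    rw [S.equi r hr g c hg]
    exact S.X_mem hr hT _
  exact hle hz

theorem map_sub_le (T : ℕ → Prop) {M : Subgroup (GL D.Idx F)}
    (h : ∀ r, r < D.nroots → T r → ∀ t, xG hF r t ∈ M) {g : E} (hg : g ∈ S.sub T) :
    A.θ g ∈ M := by
  have hle : S.sub T ≤ M.comap A.θ := (Subgroup.closure_le _).2 fun _ ⟨r, t, hr, hT, e⟩ => by
    subst e
    show A.θ (S.X r t) ∈ M
    rw [S.θ_X]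
    exact h r hr hT t
  exact hle hg

theorem θ_word {r s : ℕ} (t u : F) :
    A.θ (((D.commWord F r s t u).map fun p => S.X p.1 p.2).prod) =
      wordG hF (D.commWord F r s t u) := by
  rw [map_list_prod, List.map_map, wordG]
  exact congrArg List.prod (List.map_congr_left fun p _ => S.θ_X _ _)

theorem θ_lhs {r s : ℕ} (hr : r < D.nroots) (hs : s < D.nroots) (h1 : s ≠ r) (h2 : s ≠ D.neg r)
    (t u : F) : A.θ ((S.X s u)⁻¹ * (S.X r t)⁻¹ * S.X s u * S.X r t) =
      wordG hF (D.commWord F r s t u) := by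
  rw [map_mul, map_mul, map_mul, map_inv, map_inv, S.θ_X, S.θ_X,
    mul_assoc _ (xG hF s u), xG_comm hF hr hs h1 h2]
  group

/-- `θ` is injective on the subgroup of the roots in `T`. -/
def InjOn (T : ℕ → Prop) : Prop := ∀ g ∈ S.sub T, A.θ g = 1 → g = 1

theorem InjOn.eq {T : ℕ → Prop} (h : S.InjOn T) {a b : E} (ha : a ∈ S.sub T) (hb : b ∈ S.sub T)
    (e : A.θ a = A.θ b) : a = b :=
  inv_mul_eq_one.1 (h _ (Subgroup.mul_mem _ (Subgroup.inv_mem _ ha) hb)
    (by rw [map_mul, map_inv, e, inv_mul_cancel]))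

theorem injOn_of_rel {T : ℕ → Prop} (hpos : ∀ m < D.nroots, T m → half D ≤ m)
    (hrel : ∀ j < D.nroots, ∀ m < D.nroots, T j → T m → j < m →
      S.Rel j m ∧ ∀ c ∈ D.commTerms j m, T c.1) : S.InjOn T := by
  suffices H : ∀ d j, D.nroots - j = d → S.InjOn (fun m => T m ∧ j ≤ m) by
    intro g hg
    refine H _ 0 rfl g ?_
    have hle : S.sub T ≤ S.sub (fun m => T m ∧ 0 ≤ m) :=
      Subgroup.closure_mono fun x ⟨r, t, hr, hT, e⟩ => ⟨r, t, hr, ⟨hT, Nat.zero_le r⟩, e⟩
    exact hle hg
  intro d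
  induction d with
  | zero =>
    intro j hd g hg _
    have hbot : S.sub (fun m => T m ∧ j ≤ m) ≤ ⊥ :=
      (Subgroup.closure_le _).2 fun _ ⟨r, t, hr, hT, _⟩ => absurd hT.2 (by omega)
    exact Subgroup.mem_bot.1 (hbot hg)
  | succ d ih =>
    intro j hd g hg e
    have hjn : j < D.nroots := by omega
    set T' : ℕ → Prop := fun m => T m ∧ j + 1 ≤ m with hT'
    by_cases hj : T j
    swap
    · refine ih (j + 1) (by omega) g ?_ e
      refine (Subgroup.closure_mono fun x hx => ?_) hg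
      obtain ⟨r, t, hr, hT, ex⟩ := hx
      exact ⟨r, t, hr, ⟨hT.1, lt_of_le_of_ne hT.2 fun h => hj (h ▸ hT.1)⟩, ex⟩
    have hconj : ∀ t, ∀ z ∈ S.sub T', S.X j (-t) * z * S.X j t ∈ S.sub T' := by
      intro t z hz
      have hle : S.sub T' ≤ (S.sub T').comap (MulAut.conj (S.X j (-t))).toMonoidHom := by
        refine (Subgroup.closure_le _).2 ?_
        rintro _ ⟨m, a, hm, hTm, rfl⟩
        obtain ⟨hR, hc⟩ := hrel j hjn m hm hj hTm.1 hTm.2
        show S.X j (-t) * S.X m a * (S.X j (-t))⁻¹ ∈ S.sub T'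
        rw [S.X_inv hjn, neg_neg, ← S.X_inv hjn,
          show (S.X j t)⁻¹ * S.X m a * S.X j t =
            S.X m a * ((S.X m a)⁻¹ * (S.X j t)⁻¹ * S.X m a * S.X j t) by group, hR]
        refine Subgroup.mul_mem _ (S.X_mem hm hTm a) (S.word_mem hjn hm (fun c hc' => ⟨hc c hc',
          (hF.comm_pos j m hjn hm (hpos j hjn hj) (hpos m hm hTm.1) c hc').1⟩) _ _)
      have := hle hz
      rwa [Subgroup.mem_comap, MulEquiv.coe_toMonoidHom, MulAut.conj_apply, S.X_inv hjn, neg_neg]
        at this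
    obtain ⟨t, g', hg', rfl⟩ : ∃ t, ∃ g' ∈ S.sub T', g = S.X j t * g' := by
      clear e
      induction hg using Subgroup.closure_induction_left with
      | one => exact ⟨0, 1, Subgroup.one_mem _, by rw [S.X_zero hjn, mul_one]⟩
      | mul_left x hx y _ ih =>
        obtain ⟨m, a, hm, hTm, rfl⟩ := hx
        obtain ⟨t, g', hg', rfl⟩ := ih
        rcases eq_or_lt_of_le hTm.2 with h | h
        · subst h
          exact ⟨a + t, g', hg', by rw [← mul_assoc, S.add _ hjn]⟩
        · refine ⟨t, S.X j (-t) * S.X m a * S.X j t * g',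
            Subgroup.mul_mem _ (hconj t _ (S.X_mem hm (⟨hTm.1, h⟩ : T' m) a)) hg', ?_⟩
          rw [← S.X_inv hjn]; group
      | inv_mul_cancel x hx y _ ih =>
        obtain ⟨m, a, hm, hTm, rfl⟩ := hx
        obtain ⟨t, g', hg', rfl⟩ := ih
        rcases eq_or_lt_of_le hTm.2 with h | h
        · subst h
          exact ⟨-a + t, g', hg', by rw [← mul_assoc, S.X_inv hjn, S.add _ hjn]⟩
        · refine ⟨t, S.X j (-t) * (S.X m a)⁻¹ * S.X j t * g',
            Subgroup.mul_mem _ (hconj t _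
              (Subgroup.inv_mem _ (S.X_mem hm (⟨hTm.1, h⟩ : T' m) a))) hg', ?_⟩
          rw [← S.X_inv hjn]; group
    have hθ : A.θ g' = xG hF j (-t) := by
      rw [map_mul, S.θ_X] at e
      rw [← xG_inv, eq_comm, inv_eq_of_mul_eq_one_right e]
    have hno := closure_le_noCoroot hF (hpos j hjn hj) hjn (S.map_sub_le _
      (M := Subgroup.closure (rootsFrom hF (j + 1)))
      (fun r hr hT t => Subgroup.subset_closure ⟨r, t, hT.2, hr, rfl⟩) hg')
    obtain ⟨k, hk, hne⟩ := hF.coef_unit (F := F) hjn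
    have h0 := (hno.2 ⟨k, hk⟩ ⟨D.neg j, neg_lt hF hjn⟩ le_rfl).1
    rw [hθ, xG_val, x_neg_col hF hjn, mul_eq_zero, neg_eq_zero] at h0
    obtain rfl := h0.resolve_left hne
    rw [S.X_zero hjn, one_mul] at e ⊢
    exact ih (j + 1) (by omega) g' hg' e

/-- The roots used for the pair `(k, s)`. -/
def above (k s : ℕ) : ℕ → Prop := fun m => m = k ∨ s < m

theorem rel_of_moves {a b : ℕ} (ha : a < D.nroots) (hb : b < D.nroots) (hab : b ≠ a)
    (hn : b ≠ D.neg a) (hn' : a ≠ D.neg b) (hmv : Moves D F b a) {T : ℕ → Prop} (hT : S.InjOn T)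
    (hTa : T a) (h1 : ∀ c ∈ D.commTerms a b, T c.1) (h2 : ∀ c ∈ D.commTerms b a, T c.1) :
    S.Rel a b ∧ S.Rel b a := by
  obtain ⟨c, hcb, hca⟩ := hmv
  obtain ⟨g, hg⟩ := A.exists_tor c
  have hca' : ((chiU c a : Fˣ) : F) - 1 ≠ 0 := fun h => hca (Units.ext (sub_eq_zero.1 h))
  have key : ∀ t u : F, (S.X b u)⁻¹ * S.X a t * S.X b u ∈ S.sub T := by
    intro t u
    set s := t / ((chiU c a : F) - 1) with hs
    have hts : t = ((chiU c a : F) - 1) * s := by rw [hs]; field_simp
    have hyg : A.θ ((S.X b u)⁻¹ * g * S.X b u) = torusHom c := by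
      rw [map_mul, map_mul, map_inv, S.θ_X, hg, mul_assoc, torusHom_conj hF c hb, hcb, Units.val_one,
        one_mul, inv_mul_cancel_left]
    set z := ((D.commWord F a b (-s) u).map fun p => S.X p.1 p.2).prod * S.X a s with hz
    have hzT : z ∈ S.sub T :=
      Subgroup.mul_mem _ (S.word_mem ha hb h1 _ _) (S.X_mem ha hTa s)
    have hθz : A.θ ((S.X b u)⁻¹ * S.X a s * S.X b u) = A.θ z := by
      rw [hz, map_mul, map_mul _ (List.prod _), S.θ_word, ← S.θ_lhs ha hb hab hn (-s) u,
        ← S.X_inv ha, inv_inv, map_mul, map_mul, map_inv, map_inv]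
      simp only [map_mul, map_inv]; group
    have h3 : (S.X b u)⁻¹ * S.X a t * S.X b u = ⁅g, z⁆ := by
      rw [hts, ← S.comm_tor ha hg (S.θ_X a s),
        ← A.br_indep (hyg.trans hg.symm) hθz]
      simp only [commutatorElement_def]; group
    rw [h3, commutatorElement_def]
    exact Subgroup.mul_mem _ (S.conj_tor_mem hg hzT) (Subgroup.inv_mem _ hzT)
  refine ⟨fun t u => hT.eq S ?_ (S.word_mem ha hb h1 t u)
      (by rw [S.θ_lhs ha hb hab hn, S.θ_word]),
    fun t u => hT.eq S ?_ (S.word_mem hb ha h2 t u)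
      (by rw [S.θ_lhs hb ha (Ne.symm hab) hn', S.θ_word])⟩
  · rw [show (S.X b u)⁻¹ * (S.X a t)⁻¹ * S.X b u * S.X a t =
      ((S.X b u)⁻¹ * S.X a t * S.X b u)⁻¹ * S.X a t by group]
    exact Subgroup.mul_mem _ (Subgroup.inv_mem _ (key t u)) (S.X_mem ha hTa t)
  · rw [show (S.X a u)⁻¹ * (S.X b t)⁻¹ * S.X a u * S.X b t =
      (S.X a u)⁻¹ * ((S.X b t)⁻¹ * S.X a u * S.X b t) by group]
    exact Subgroup.mul_mem _ (Subgroup.inv_mem _ (S.X_mem ha hTa u)) (key u t)

/-- A pair of positive roots which can be handled. -/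
def PairOK (A : CExt hF F E) (k s : ℕ) : Prop :=
  Moves D F s k ∨ Moves D F k s ∨
    (D.commTerms k s = [] ∧ D.commTerms s k = [] ∧ A.PC k s)

theorem rel_pos (hp : ∀ k s, half D ≤ k → k < s → s < D.nroots →
      PairOK A k s ∨ (S.Rel k s ∧ S.Rel s k)) :
    ∀ k s, half D ≤ k → k < s → s < D.nroots → S.Rel k s ∧ S.Rel s k := by
  suffices H : ∀ d k s, (D.nroots - k) * (D.nroots + 1) + (D.nroots - s) = d → half D ≤ k → k < s →
      s < D.nroots → S.Rel k s ∧ S.Rel s k from fun k s => H _ k s rfl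
  intro d
  induction d using Nat.strong_induction_on with
  | _ d ih =>
    intro k s hd hk hks hs
    have hkn : k < D.nroots := by omega
    have hev := hF.nroots_even
    have hn : s ≠ D.neg k := by have := hF.neg_eq k hkn; omega
    have hn' : k ≠ D.neg s := by have := hF.neg_eq s hs; omega
    have later : ∀ j m, half D ≤ j → j < m → m < D.nroots → k < j ∨ (k = j ∧ s < m) →
        S.Rel j m ∧ S.Rel m j := by
      intro j m hj hjm hm h
      refine ih _ ?_ j m rfl hj hjm hm
      rcases h with h | ⟨rfl, h⟩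
      · have h3 : (D.nroots - j + 1) * (D.nroots + 1) ≤ (D.nroots - k) * (D.nroots + 1) :=
          Nat.mul_le_mul_right _ (by omega)
        rw [Nat.add_mul] at h3
        omega
      · omega
    have hinj : ∀ a, (a = k ∨ a = s) → S.InjOn (above a s) := by
      intro a ha
      refine S.injOn_of_rel (T := above a s) (fun m hm h => ?_) fun j hj m hm hTj hTm hjm => ⟨?_, fun c hc => ?_⟩
      · rcases ha with rfl | rfl <;> rcases h with rfl | h <;> omega
      · refine (later j m ?_ hjm hm ?_).1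
        · rcases ha with rfl | rfl <;> rcases hTj with rfl | h <;> omega
        · rcases ha with rfl | rfl <;> rcases hTj with rfl | h <;> rcases hTm with rfl | h' <;> omega
      · refine Or.inr ?_
        have := hF.comm_pos j m hj hm (by rcases ha with rfl | rfl <;> rcases hTj with rfl | h <;> omega)
          (by rcases ha with rfl | rfl <;> rcases hTj with rfl | h <;> omega) c hc
        rcases ha with rfl | rfl <;> rcases hTm with rfl | h' <;> rcases hTj with rfl | h <;> omega
    have t1 : ∀ c ∈ D.commTerms k s, s < c.1 := fun c hc =>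
      (hF.comm_pos k s hkn hs hk (by omega) c hc).2
    have t2 : ∀ c ∈ D.commTerms s k, s < c.1 := fun c hc =>
      (hF.comm_pos s k hs hkn (by omega) hk c hc).1
    rcases hp k s hk hks hs with (h | h | ⟨e1, e2, h⟩) | h
    · exact S.rel_of_moves hkn hs (by omega) hn hn' h (hinj k (Or.inl rfl)) (Or.inl rfl)
        (fun c hc => Or.inr (t1 c hc)) (fun c hc => Or.inr (t2 c hc))
    · exact (S.rel_of_moves hs hkn (by omega) hn' hn h (hinj s (Or.inr rfl)) (Or.inl rfl)
        (fun c hc => Or.inr (t2 c hc)) (fun c hc => Or.inr (t1 c hc))).symm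
    · refine ⟨fun t u => ?_, fun t u => ?_⟩ <;>
        simp only [ChevalleyDatum.commWord, e1, e2, List.map_nil, List.prod_nil]
      · rw [mul_assoc _ (S.X s u), ← (h.of_map A (S.θ_X k t) (S.θ_X s u)).eq]
        group
      · rw [mul_assoc _ (S.X k u), (h.of_map A (S.θ_X k u) (S.θ_X s t)).eq]
        group
    · exact h

/-- Every pair of roots not opposite moves into the positive roots. -/
theorem exists_pos_pair {Q : ℕ → ℕ → Prop} (hF : Facts.{u} D)
    (hpos : ∀ r s, half D ≤ r → half D ≤ s → r < D.nroots → s < D.nroots → Q r s)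
    (hrefl : ∀ i r s, i < D.rank → r < D.nroots → s < D.nroots → s ≠ D.neg r →
      Q (D.reflectRoot i r) (D.reflectRoot i s) → Q r s) :
    ∀ r, r < D.nroots → ∀ s, s < D.nroots → s ≠ D.neg r → Q r s := by
  have hne : ∀ i r s, i < D.rank → r < D.nroots → s < D.nroots → s ≠ D.neg r →
      D.reflectRoot i s ≠ D.neg (D.reflectRoot i r) := fun i r s hi hr hs h e => h (by
    rw [← hF.refl_refl i hi s hs, e, hF.refl_neg i hi _ (hF.refl_lt i hi r hr),
      hF.refl_refl i hi r hr])
  have hnn : ∀ r s, r < D.nroots → s < D.nroots → r < half D → s < half D → s ≠ D.neg r → Q r s := by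
    intro r s hr hs h1 h2 h3
    obtain ⟨l, hl, hlong⟩ := hF.longest
    have hneg : ∀ x < D.nroots, x < half D →
        half D ≤ l.foldr (fun i s => D.reflectRoot i s) x := by
      intro x hx hxh
      have hfl : ∀ (l : List ℕ), (∀ i ∈ l, i < D.rank) → ∀ y < D.nroots,
          l.foldr (fun i s => D.reflectRoot i s) y < D.nroots ∧
          l.foldr (fun i s => D.reflectRoot i s) (D.neg y) =
            D.neg (l.foldr (fun i s => D.reflectRoot i s) y) := by
        intro l
        induction l with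
        | nil => exact fun _ y hy => ⟨hy, rfl⟩
        | cons i l ih =>
          intro hl y hy
          obtain ⟨g1, g2⟩ := ih (fun j hj => hl j (List.mem_cons_of_mem _ hj)) y hy
          refine ⟨hF.refl_lt i (hl i List.mem_cons_self) _ g1, ?_⟩
          simp only [List.foldr_cons, g2]
          exact hF.refl_neg i (hl i List.mem_cons_self) _ g1
      have hny : half D ≤ D.neg x := by
        have := hF.neg_eq x hx; have := hF.nroots_even; omega
      have h4 := hlong _ (neg_lt hF hx) hny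
      rw [(hfl l hl x hx).2] at h4
      have := hF.neg_eq _ (hfl l hl x hx).1; have := hF.nroots_even
      have := (hfl l hl x hx).1
      omega
    suffices H : ∀ l' : List ℕ, (∀ i ∈ l', i < D.rank) → ∀ x y, x < D.nroots → y < D.nroots →
        y ≠ D.neg x →
        half D ≤ l'.foldr (fun i s => D.reflectRoot i s) x →
        half D ≤ l'.foldr (fun i s => D.reflectRoot i s) y → Q x y from
      H l hl r s hr hs h3 (hneg r hr h1) (hneg s hs h2)
    intro l'
    induction l' using List.reverseRecOn with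
    | nil => exact fun _ x y hx hy _ h h' => hpos x y h h' hx hy
    | append_singleton l' i ih =>
      intro hl' x y hx hy hxy h h'
      simp only [List.foldr_append, List.foldr_cons, List.foldr_nil] at h h'
      have hi : i < D.rank := hl' i (by simp)
      exact hrefl i x y hi hx hy hxy (ih (fun j hj => hl' j (by simp [hj])) _ _
        (hF.refl_lt i hi x hx) (hF.refl_lt i hi y hy) (hne i x y hi hx hy hxy) h h')
  refine hF.root_induction _ (fun i hi s hs hns => ?_) (fun i hi r hr ih s hs hns => ?_)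
  · have hk := hF.simple_lt i hi
    by_cases hsp : half D ≤ s
    · exact hpos _ _ (hF.simple_pos i hi) hsp hk hs
    · refine hrefl i _ s hi hk hs hns ?_
      have hev := hF.nroots_even
      have hneg := hF.neg_eq _ hk
      have hkp := hF.simple_pos i hi
      refine hnn _ _ (hF.refl_lt i hi _ hk) (hF.refl_lt i hi s hs) ?_ ?_ (hne i _ s hi hk hs hns)
      · rw [hF.refl_simple i hi]; omega
      · by_contra hcon
        have h5 := hF.refl_pos i hi _ (hF.refl_lt i hi s hs) (not_lt.1 hcon) (fun e => hns (by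
          rw [← hF.refl_refl i hi s hs, e, hF.refl_simple i hi]))
        rw [hF.refl_refl i hi s hs] at h5
        exact hsp h5
  · refine hrefl i _ s hi (hF.refl_lt i hi r hr) hs hns ?_
    rw [hF.refl_refl i hi r hr]
    refine ih _ (hF.refl_lt i hi s hs) ?_
    have := hne i _ s hi (hF.refl_lt i hi r hr) hs hns
    rwa [hF.refl_refl i hi r hr] at this

include S in
/-- The relation (R2) holds at every pair. -/
theorem rel_all (hp : ∀ k s, half D ≤ k → k < s → s < D.nroots →
      PairOK A k s ∨ (S.Rel k s ∧ S.Rel s k))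
    (hT : TermsRefl D) : ∀ r s, r < D.nroots → s < D.nroots → s ≠ r → s ≠ D.neg r → S.Rel r s := by
  have hinj : S.InjOn (fun m => half D ≤ m) := by
    refine S.injOn_of_rel (fun m _ h => h) fun j hj m hm hjp _ hjm => ⟨(S.rel_pos hp j m hjp hjm hm).1,
      fun c hc => ?_⟩
    have := hF.comm_pos j m hj hm hjp (by omega) c hc
    show half D ≤ c.1
    omega
  -- transport by preimages of products of fundamental reflections
  suffices H : ∀ r, r < D.nroots → ∀ s, s < D.nroots → s ≠ D.neg r → s ≠ r →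
      ∃ g, ∀ t u : F,
        g * ((S.X s u)⁻¹ * (S.X r t)⁻¹ * S.X s u * S.X r t) * g⁻¹ ∈ S.sub (fun m => half D ≤ m) ∧
        g * ((D.commWord F r s t u).map fun p => S.X p.1 p.2).prod * g⁻¹ ∈
          S.sub (fun m => half D ≤ m) by
    intro r s hr hs h1 h2 t u
    obtain ⟨g, hg⟩ := H r hr s hs h2 h1
    refine mul_left_cancel (mul_right_cancel (hinj.eq S (hg t u).1 (hg t u).2 ?_))
    simp only [map_mul, map_inv]
    have e := (S.θ_lhs hr hs h1 h2 t u).trans (S.θ_word (r := r) (s := s) t u).symm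
    simp only [map_mul, map_inv] at e
    rw [e]
  let Q : ℕ → ℕ → Prop := fun r s => s ≠ r →
    ∃ (g : E) (π : ℕ → ℕ), half D ≤ π r ∧ half D ≤ π s ∧ π r < D.nroots ∧ π s < D.nroots ∧
      (∀ c ∈ D.commTerms r s, π c.1 ∈ (D.commTerms (π r) (π s)).map Prod.fst) ∧
      ∀ x < D.nroots, ∀ t, ∃ v, g * S.X x t * g⁻¹ = S.X (π x) v
  intro r hr s hs hns hsr
  obtain ⟨g, π, p1, p2, p3, p4, hterm, hconj⟩ := exists_pos_pair (Q := Q) hF
    (fun a b ha hb hal hbl _ => ⟨1, id, ha, hb, hal, hbl,
      fun c hc => List.mem_map_of_mem (f := Prod.fst) hc,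
      fun x _ t => ⟨t, by simp⟩⟩)
    (fun i a b hi ha hb hab hq hba => by
      have hi' := hF.refl_lt i hi
      obtain ⟨g, π, q1, q2, q3, q4, q5, q6⟩ := hq (fun e => hba (by
        rw [← hF.refl_refl i hi b hb, e, hF.refl_refl i hi a ha]))
      obtain ⟨w, hw⟩ := A.exists_nS (i := i)
      refine ⟨g * w, fun x => π (D.reflectRoot i x), q1, q2, q3, q4, fun c hc => ?_, fun x hx t => ?_⟩
      · obtain ⟨c', hc', e⟩ := List.mem_map.1 (hT i hi a ha b hb hba hab c hc)
        have := q5 c' hc'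
        rwa [e] at this
      · obtain ⟨v, hv⟩ := S.weyl i hi x hx w hw t
        obtain ⟨v', hv'⟩ := q6 _ (hi' x hx) v
        exact ⟨v', by rw [← hv', ← hv]; group⟩)
    r hr s hs hns hsr
  refine ⟨g, fun t u => ⟨?_, ?_⟩⟩
  · obtain ⟨a, ha⟩ := hconj r hr t
    obtain ⟨b, hb⟩ := hconj s hs u
    rw [show g * ((S.X s u)⁻¹ * (S.X r t)⁻¹ * S.X s u * S.X r t) * g⁻¹ =
      (g * S.X s u * g⁻¹)⁻¹ * (g * S.X r t * g⁻¹)⁻¹ * (g * S.X s u * g⁻¹) * (g * S.X r t * g⁻¹) by
      group, ha, hb]
    exact Subgroup.mul_mem _ (Subgroup.mul_mem _ (Subgroup.mul_mem _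
      (Subgroup.inv_mem _ (S.X_mem p4 p2 b)) (Subgroup.inv_mem _ (S.X_mem p3 p1 a)))
      (S.X_mem p4 p2 b)) (S.X_mem p3 p1 a)
  · have hle : (((D.commWord F r s t u).map fun p => S.X p.1 p.2).prod) ∈
        (S.sub fun m => half D ≤ m).comap (MulAut.conj g).toMonoidHom := by
      refine Subgroup.list_prod_mem _ fun x hx => ?_
      obtain ⟨p, hp, rfl⟩ := List.mem_map.1 hx
      obtain ⟨c, hc, rfl⟩ := List.mem_map.1 hp
      obtain ⟨v, hv⟩ := hconj c.1 (hF.comm_lt r s hr hs c hc) (c.2.1 * (-t) ^ c.2.2.1 * u ^ c.2.2.2)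
      show g * _ * g⁻¹ ∈ S.sub _
      rw [hv]
      obtain ⟨c', hc', e⟩ := List.mem_map.1 (hterm c hc)
      rw [← e]
      refine S.X_mem (hF.comm_lt _ _ p3 p4 c' hc') ?_ v
      exact le_trans p1 (hF.comm_pos _ _ p3 p4 p1 p2 c' hc').1.le
    exact hle

/-- The subgroup generated by the lifts. -/
def span : Subgroup E := S.sub fun _ => True

/-- The lift given by the system. -/
def toLift (hp : ∀ k s, half D ≤ k → k < s → s < D.nroots →
      PairOK A k s ∨ (S.Rel k s ∧ S.Rel s k)) (hT : TermsRefl D) :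
    Lift hF F S.span where
  X r t := if hr : r < D.nroots then ⟨S.X r t, S.X_mem hr trivial t⟩ else 1
  θ := A.θ.comp S.span.subtype
  θ_X r t := by
    split_ifs with hr
    · exact S.θ_X r t
    · rw [map_one]
      exact (Units.ext (by rw [xG_val, x_of_ge hr]; rfl)).symm
  add r hr t₁ t₂ := by simp only [dif_pos hr]; exact Subtype.ext (S.add r hr t₁ t₂)
  comm r s hr hs hsr hsn t u := by
    apply Subtype.ext
    simp only [dif_pos hr, dif_pos hs]
    refine (S.rel_all hp hT r s hr hs hsr hsn t u).trans ?_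
    rw [SubmonoidClass.coe_list_prod, List.map_map]
    refine congrArg List.prod (List.map_congr_left fun p hp' => ?_)
    obtain ⟨c, hc, rfl⟩ := List.mem_map.1 hp'
    simp only [Function.comp_apply, dif_pos (hF.comm_lt r s hr hs c hc)]
  gen := by
    refine eq_top_iff.2 (le_of_eq_of_le (Subgroup.closure_closure_coe_preimage
      (k := {g | ∃ (r : ℕ) (t : F), r < D.nroots ∧ True ∧ g = S.X r t})).symm ?_)
    exact Subgroup.closure_mono fun g ⟨r, t, hr, _, e⟩ =>
      ⟨r, t, hr, by rw [dif_pos hr]; exact Subtype.ext e⟩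

end Sys

end Cfsg.Agent.ChevExt
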