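import Cfsg.Agent.ChevExt.Simply
import Cfsg.Agent.Chev.Sound

/-!
A quicker evaluation of the certificate checks through the packed tables.
-/

set_option autoImplicit false

namespace Cfsg.Agent.ChevExt

open Cfsg.Lie Cfsg.Agent.Chev

/-- `comR`, from the packed tables. -/
noncomputable def comFast (D : ChevalleyDatum) (T : Cert) (r s : ℕ) : Bool :=
  force r fun r => force s fun s => Nat.beq r s || (!Nat.beq s (D.neg r) && !Nat.beq r (D.neg s) &&
    ((T.cTerms D r s).isEmpty || (T.cTerms D s r).isEmpty))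

/-- `pairChk`, from the packed tables. -/
noncomputable def pairFast (D : ChevalleyDatum) (T : Cert) (α : ℕ) (K : List (ℕ × ℕ)) (r s : ℕ) :
    Bool :=
  Nat.beq s r || Nat.beq s (D.neg r) ||
    match T.cTerms D s r with
    | [] => true
    | [c] => Nat.beq c.2.1.natAbs 1 && Nat.beq c.2.2.1 1 && Nat.beq c.2.2.2 1 &&
        comFast D T r c.1 && comFast D T s c.1 &&
        Nat.blt c.1 D.nroots && (!Nat.beq c.1 α || decide ((r, s) ∈ K))
    | _ => false

/-- The pairs whose first root lies in an interval. -/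
noncomputable def pairsFast (D : ChevalleyDatum) (T : Cert) (α : ℕ) (K : List (ℕ × ℕ)) (lo n : ℕ) :
    Bool :=
  allBelow (fun k => force (lo + k) fun r => allBelow (fun s => pairFast D T α K r s) D.nroots) n

theorem comFast_eq {D : ChevalleyDatum} {T : Cert} (h : Checks D T) (r s : ℕ) :
    comFast D T r s = comR D r s := by
  rw [Bool.eq_iff_iff]
  simp [comFast, comR, force_eq, commTerms_eq h, nbeq_false_iff]

theorem pairFast_eq {D : ChevalleyDatum} {T : Cert} (h : Checks D T) (α : ℕ) (K : List (ℕ × ℕ))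
    (r s : ℕ) : pairFast D T α K r s = pairChk D α K r s := by
  rw [Bool.eq_iff_iff, pairFast, pairChk, commTerms_eq h]
  rcases T.cTerms D s r with _ | ⟨c, _ | ⟨c', l⟩⟩ <;>
    simp [comFast_eq h, nbeq_false_iff]

theorem pairsChk_of_fast {D : ChevalleyDatum} {T : Cert} (h : Checks D T) {α : ℕ}
    {K : List (ℕ × ℕ)} {w : ℕ} (n : ℕ) (hn : D.nroots ≤ n * w)
    (hc : ∀ k < n, pairsFast D T α K (k * w) w = true) : pairsChk D α K = true := by
  simp only [pairsChk, List.all_eq_true, List.mem_range]
  intro r hr s hs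
  have hw : 0 < w := Nat.pos_of_ne_zero fun e => by subst e; simp at hn; omega
  have hk : r / w < n := (Nat.div_lt_iff_lt_mul hw).2 (lt_of_lt_of_le hr hn)
  have h1 := hc _ hk
  simp only [pairsFast, allBelow_iff, force_eq] at h1
  have h2 := h1 (r % w) (Nat.mod_lt _ hw) s hs
  rwa [Nat.mul_comm, Nat.div_add_mod, pairFast_eq h] at h2

end Cfsg.Agent.ChevExt
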