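import Cfsg.Agent.ChevExt.Simply
import Cfsg.Agent.Chev.WeylAll
import Cfsg.Agent.Chev.ExtraAll
import Cfsg.Agent.Chev.SteinbergCenter
import Cfsg.Agent.Chev.LiftFinite
import Cfsg.Agent.ProjExt.Stem
import Cfsg.Prelude.Def_KGroupFacts

/-!
Stem extensions of Chevalley groups and the lifts they carry.
-/

set_option autoImplicit false

namespace Cfsg.Agent.ChevExt

open Cfsg.Lie Cfsg.Agent.Chev
open scoped MatrixGroups commutatorElement

universe u v

variable {D : ChevalleyDatum} (hF : Facts.{u} D) {F : Type u} [Field F] {Γ : Type v} [Group Γ]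

/-- The central extension carried by a map onto the Chevalley group. -/
noncomputable def ofHom (σ : Γ →* ↥(D.group F)) (hs : Function.Surjective σ)
    (hc : σ.ker ≤ Subgroup.center Γ) : CExt hF F Γ where
  θ := (D.group F).subtype.comp σ
  central := fun g hg => hc (by
    rw [MonoidHom.mem_ker] at hg ⊢
    exact Subtype.ext hg)
  surj r t := by
    obtain ⟨g, hg⟩ := hs ⟨xG hF r t, xG_mem_group hF r t⟩
    exact ⟨g, congrArg Subtype.val hg⟩

variable {hF}

namespace CExt

variable (A : CExt hF F Γ) (C : SimplyCert D)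

/-- The canonical lifts cover the group. -/
theorem range_le_map_canSub : D.group F ≤ (A.canSub C).map A.θ := by
  refine (Subgroup.closure_le _).2 ?_
  rintro g ⟨r, t, e⟩
  refine ⟨_, A.canX_mem C r t, ?_⟩
  rw [A.θ_canX]
  exact Units.ext (by rw [xG_val, ChevalleyDatum.x, dif_pos r.2, e])

theorem range_θ_eq (h : A.θ.range ≤ D.group F) : ∀ g, ∃ x ∈ A.canSub C, A.θ x = A.θ g := fun g => by
  obtain ⟨x, hx, e⟩ := A.range_le_map_canSub C (h ⟨g, rfl⟩)
  exact ⟨x, hx, e⟩

/-- The derived group consists of products of canonical lifts. -/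
theorem commutator_le_canSub (h : A.θ.range ≤ D.group F) : commutator Γ ≤ A.canSub C := by
  rw [commutator_def, Subgroup.commutator_le]
  intro a _ b _
  obtain ⟨x, hx, ex⟩ := A.range_θ_eq C h a
  obtain ⟨y, hy, ey⟩ := A.range_θ_eq C h b
  rw [A.br_indep ex.symm ey.symm, commutatorElement_def]
  exact Subgroup.mul_mem _ (Subgroup.mul_mem _ (Subgroup.mul_mem _ hx hy) (Subgroup.inv_mem _ hx))
    (Subgroup.inv_mem _ hy)

end CExt

/-- The kernel of a stem extension is the kernel of the canonical lift. -/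
theorem exists_lift_of_stem (hF : Facts.{u} D) (C : SimplyCert D) (σ : Γ →* ↥(D.group F))
    (hσ : Cfsg.IsStemExtension σ) :
    ∃ (S : Subgroup Γ) (L : Lift hF F S), σ.ker ≤ S ∧ ∀ g : S, L.θ g = 1 ↔ σ g = 1 := by
  let A := ofHom hF σ hσ.1 hσ.2.1
  refine ⟨A.canSub C, A.toLift C, hσ.2.2.trans (A.commutator_le_canSub C ?_), fun g => ?_⟩
  · rintro _ ⟨g, rfl⟩
    exact (σ g).2
  · show ((σ g : ↥(D.group F)) : GL D.Idx F) = 1 ↔ _
    rw [OneMemClass.coe_eq_one]

/-- For unimodular Cartan matrices stem extensions over finite fields are trivial. -/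
theorem ker_eq_bot_of_unimodular (hF : Facts.{u} D) [Finite F] (C : SimplyCert D) (hE : Extra D)
    (hinj : Function.Injective (torusHom : (Fin D.rank → Fˣ) →* GL D.Idx F))
    (σ : Γ →* ↥(D.group F)) (hσ : Cfsg.IsStemExtension σ) : σ.ker = ⊥ := by
  obtain ⟨S, L, hS, hL⟩ := exists_lift_of_stem hF C σ hσ
  have hk : L.θ.ker = ⊥ := L.ker_eq_bot hE (fun i a b => by
    rw [Units.val_mul]
    exact L.h_mul hE _ (hF.simple_lt i i.2) _ _ (Units.ne_zero a) (Units.ne_zero b)) hinj
  rw [eq_bot_iff]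
  intro g hg
  have h1 : (⟨g, hS hg⟩ : S) ∈ L.θ.ker := (hL _).2 hg
  rw [hk, Subgroup.mem_bot] at h1
  exact Subgroup.mem_bot.2 (congrArg Subtype.val h1)

end Cfsg.Agent.ChevExt
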