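import Cfsg.Agent.ChevExt.Cover
import Cfsg.Agent.ChevExt.Equi
import Cfsg.Agent.Chev.UnipotentCount
import Mathlib.GroupTheory.SchurZassenhaus
import Mathlib.GroupTheory.Perm.Cycle.Type

/-!
Over a finite field of characteristic `p` the relations (R1), (R2) lift to every central extension
of the Chevalley group whose kernel has order prime to `p`.
-/

set_option autoImplicit false

namespace Cfsg.Agent.ChevExt

open Cfsg.Lie Cfsg.Agent.Chev
open scoped MatrixGroups Pointwise

universe u v w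

section Coprime

variable {G : Type v} {Γ : Type w} [Group G] [Group Γ] [Finite Γ] (q : Γ →* G)
  (hc : q.ker ≤ Subgroup.center Γ) {p : ℕ} [hp : Fact p.Prime] (hcop : ¬ p ∣ Nat.card q.ker)

include hc hcop

omit [Finite Γ] in
theorem pe_lift_unique {y y' : Γ} (e : q y = q y') {k k' : ℕ} (h : y ^ p ^ k = 1)
    (h' : y' ^ p ^ k' = 1) : y = y' := by
  have hz : y⁻¹ * y' ∈ q.ker := by rw [MonoidHom.mem_ker, map_mul, map_inv, e, inv_mul_cancel]
  have hcm : Commute y⁻¹ y' := by
    have h1 : Commute y (y⁻¹ * y') := Subgroup.mem_center_iff.1 (hc hz) y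
    have h2 := (Commute.refl y).mul_right h1
    rw [mul_inv_cancel_left] at h2
    exact h2.inv_left
  have hpow : (y⁻¹ * y') ^ p ^ (k + k') = 1 := by
    rw [hcm.mul_pow, inv_pow, pow_add, pow_mul, h, one_pow, inv_one, one_mul, mul_comm, pow_mul, h',
      one_pow]
  have h3 : orderOf (⟨y⁻¹ * y', hz⟩ : q.ker) = 1 := by
    have hd := orderOf_dvd_natCard (⟨y⁻¹ * y', hz⟩ : q.ker)
    have hd' : orderOf (⟨y⁻¹ * y', hz⟩ : q.ker) ∣ p ^ (k + k') :=
      orderOf_dvd_of_pow_eq_one (Subtype.ext (by simpa using hpow))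
    exact Nat.eq_one_of_dvd_coprimes
      (((hp.out.coprime_iff_not_dvd).2 hcop).pow_left (k + k')) hd' hd
  rw [orderOf_eq_one_iff] at h3
  exact inv_mul_eq_one.1 (congrArg Subtype.val h3)

/-- A subgroup of prime power order lifts isomorphically, by elements of prime power order. -/
theorem exists_section (hs : Function.Surjective q) {U : Subgroup G} (hU : IsPGroup p U) :
    ∃ H : Subgroup Γ, (∀ a ∈ H, ∀ b ∈ H, q a = q b → a = b) ∧
      ∀ x ∈ U, ∃ a ∈ H, q a = x ∧ ∃ k, a ^ p ^ k = 1 := by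
  classical
  let V := U.comap q
  let N := q.ker.subgroupOf V
  have hle : q.ker ≤ V := fun g hg => by
    show q g ∈ U
    rw [MonoidHom.mem_ker.1 hg]
    exact one_mem U
  have hN : N.Normal := by
    refine ⟨fun a ha g => ?_⟩
    show ((g * a * g⁻¹ : V) : Γ) ∈ q.ker
    rw [Subgroup.coe_mul, Subgroup.coe_mul, Subgroup.coe_inv,
      show (g : Γ) * (a : Γ) = a * g from Subgroup.mem_center_iff.1 (hc ha) g, mul_inv_cancel_right]
    exact ha
  let qV : V →* U := (q.comp V.subtype).codRestrict U fun g => g.2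
  have hqV : Function.Surjective qV := fun x => by
    obtain ⟨g, hg⟩ := hs x
    exact ⟨⟨g, show q g ∈ U by rw [hg]; exact x.2⟩, Subtype.ext hg⟩
  have hker : qV.ker = N := by
    ext g
    exact ⟨fun h => congrArg Subtype.val (MonoidHom.mem_ker.1 h), fun h => MonoidHom.mem_ker.2 (Subtype.ext h)⟩
  have hUfin : Finite U := Finite.of_surjective qV hqV
  obtain ⟨n, hn⟩ := IsPGroup.iff_card.1 hU
  have hidx : N.index = p ^ n := by
    rw [← hker, Subgroup.index_ker, MonoidHom.range_eq_top.2 hqV, Subgroup.card_top, hn]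
  have hcardN : Nat.card N = Nat.card q.ker :=
    Nat.card_congr (Subgroup.subgroupOfEquivOfLe hle).toEquiv
  obtain ⟨K, hK⟩ := Subgroup.exists_right_complement'_of_coprime (N := N) (by
    rw [hidx, hcardN]
    exact (((hp.out.coprime_iff_not_dvd).2 hcop).pow_left n).symm)
  have hinj : ∀ a ∈ K, qV a = 1 → a = 1 := fun a ha e => by
    have : a ∈ N ⊓ K := ⟨hker ▸ MonoidHom.mem_ker.2 e, ha⟩
    rwa [hK.disjoint.eq_bot, Subgroup.mem_bot] at this
  refine ⟨K.map V.subtype, ?_, fun x hx => ?_⟩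
  · rintro _ ⟨a, ha, rfl⟩ _ ⟨b, hb, rfl⟩ e
    refine congrArg Subtype.val (inv_mul_eq_one.1 (hinj _ (mul_mem (inv_mem ha) hb) ?_))
    rw [map_mul, map_inv, inv_mul_eq_one]
    exact Subtype.ext e
  · obtain ⟨g, hg⟩ := hqV ⟨x, hx⟩
    have hg' : g ∈ (N : Set V) * (K : Set V) := by rw [hK.mul_eq]; trivial
    obtain ⟨z, hz, a, ha, rfl⟩ := hg'
    have hza : qV a = ⟨x, hx⟩ := by
      rw [← hg, map_mul, MonoidHom.mem_ker.1 (hker ▸ hz : z ∈ qV.ker), one_mul]
    refine ⟨a, ⟨a, ha, rfl⟩, congrArg Subtype.val hza, n, ?_⟩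
    have h1 : qV (a ^ p ^ n) = 1 := by
      rw [map_pow]
      exact orderOf_dvd_iff_pow_eq_one.1 (hn ▸ orderOf_dvd_natCard _)
    have := hinj _ (pow_mem ha _) h1
    exact (SubmonoidClass.coe_pow a _).symm.trans (congrArg Subtype.val this)

end Coprime

variable {D : ChevalleyDatum} {F : Type u} [Field F] [Fintype F] {p : ℕ} [Fact p.Prime] [CharP F p]

/-- Over a finite field the group of (R1), (R2) maps into every central extension of the Chevalley
group with kernel prime to the characteristic. -/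
theorem exists_hom_of_coprime (hF : Facts.{u} D) (hT : TermsRefl D) {Γ : Type w} [Group Γ]
    [Finite Γ] (q : Γ →* ↥(D.group F)) (hsurj : Function.Surjective q)
    (hc : q.ker ≤ Subgroup.center Γ) (hcop : ¬ p ∣ Nat.card q.ker) :
    ∃ ψ : D.SteinbergCover F →* Γ, ∀ r < D.nroots, ∀ t,
      ((q (ψ ((scLift hF).X r t)) : D.group F) : GL D.Idx F) = xG hF r t := by
  classical
  let xg : ℕ → F → D.group F := fun r t => ⟨xG hF r t, xG_mem_group hF r t⟩
  -- a pair of roots with the roots of its commutator lies in a p-group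
  have hpair : ∀ r, r < D.nroots → ∀ s, s < D.nroots → s ≠ D.neg r →
      ∃ U : Subgroup (D.group F), IsPGroup p U ∧ (∀ t, xg r t ∈ U) ∧ (∀ t, xg s t ∈ U) ∧
        (s ≠ r → ∀ c ∈ D.commTerms r s, ∀ t, xg c.1 t ∈ U) := by
    intro r hr s hs hns
    let Q : ℕ → ℕ → Prop := fun r s =>
      ∃ (g : GL D.Idx F) (π : ℕ → ℕ), half D ≤ π r ∧ half D ≤ π s ∧ π r < D.nroots ∧ π s < D.nroots ∧
        (s ≠ r → π s ≠ π r ∧
          ∀ c ∈ D.commTerms r s, π c.1 ∈ (D.commTerms (π r) (π s)).map Prod.fst) ∧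
        ∀ x < D.nroots, ∀ t, ∃ v, g * xG hF x t * g⁻¹ = xG hF (π x) v
    obtain ⟨g, π, p1, p2, p3, p4, hterm, hconj⟩ := Sys.exists_pos_pair (Q := Q) hF
      (fun a b ha hb hal hbl => ⟨1, id, ha, hb, hal, hbl,
        fun hba => ⟨hba, fun c hc => List.mem_map_of_mem (f := Prod.fst) hc⟩,
        fun x _ t => ⟨t, by simp⟩⟩)
      (fun i a b hi ha hb hab ⟨g, π, q1, q2, q3, q4, q5, q6⟩ => by
        have hi' := hF.refl_lt i hi
        refine ⟨g * nS hF i, fun x => π (D.reflectRoot i x), q1, q2, q3, q4, fun hba => ?_,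
          fun x hx t => ?_⟩
        · have hne : D.reflectRoot i b ≠ D.reflectRoot i a := fun e => hba (by
            rw [← hF.refl_refl i hi b hb, e, hF.refl_refl i hi a ha])
          refine ⟨(q5 hne).1, fun c hc => ?_⟩
          obtain ⟨c', hc', e⟩ := List.mem_map.1 (hT i hi a ha b hb hba hab c hc)
          have := (q5 hne).2 c' hc'
          rwa [e] at this
        · obtain ⟨v, hv⟩ := q6 _ (hi' x hx) (((etaN hF i x : ℤ) : F) * t)
          refine ⟨v, ?_⟩
          rw [← hv, ← show nS hF i * xG hF x t * (nS hF i)⁻¹ =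
            xG hF (D.reflectRoot i x) (((etaN hF i x : ℤ) : F) * t) from
              mul_inv_eq_iff_eq_mul.2 (nS_conj_x hF hi hx t)]
          group)
      r hr s hs hns
    let U := ((D.posUnipotent F).comap (MulAut.conj g).toMonoidHom).comap (D.group F).subtype
    have hmem : ∀ x, x < D.nroots → half D ≤ π x → π x < D.nroots → ∀ t, xg x t ∈ U := by
      intro x hx h1 h2 t
      obtain ⟨v, hv⟩ := hconj x hx t
      show g * xG hF x t * g⁻¹ ∈ D.posUnipotent F
      rw [hv]
      exact mem_posUnipotent_of hF h2 h1 v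
    refine ⟨U, ?_, hmem r hr p1 p3, hmem s hs p2 p4, fun hsr c hc => ?_⟩
    · let f : U →* D.posUnipotent F :=
        ((MulAut.conj g).toMonoidHom.comp ((D.group F).subtype.comp U.subtype)).codRestrict _
          fun x => x.2
      refine (isPGroup_posUnipotent hF p).of_injective f fun a b e => ?_
      exact Subtype.ext (Subtype.ext ((MulAut.conj g).injective (congrArg Subtype.val e)))
    · obtain ⟨c', hc', e⟩ := List.mem_map.1 ((hterm hsr).2 c hc)
      refine hmem c.1 (hF.comm_lt r s hr hs c hc) ?_ (e ▸ hF.comm_lt _ _ p3 p4 c' hc')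
      rw [← e]
      exact le_trans p1 (hF.comm_pos _ _ p3 p4 p1 p2 c' hc').1.le
  have hlift : ∀ r t, ∃ a : Γ, r < D.nroots → q a = xg r t ∧ ∃ k, a ^ p ^ k = 1 := by
    intro r t
    by_cases hr : r < D.nroots
    · obtain ⟨U, hU, h1, -, -⟩ := hpair r hr r hr (neg_ne_self hF hr).symm
      obtain ⟨H, -, hH⟩ := exists_section q hc hcop hsurj hU
      obtain ⟨a, -, ha⟩ := hH _ (h1 t)
      exact ⟨a, fun _ => ha⟩
    · exact ⟨1, fun h => absurd h hr⟩
  choose X hX using hlift
  have hmemH : ∀ {H : Subgroup Γ} {U : Subgroup (D.group F)},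
      (∀ x ∈ U, ∃ a ∈ H, q a = x ∧ ∃ k, a ^ p ^ k = 1) →
      ∀ {r}, r < D.nroots → ∀ t, xg r t ∈ U → X r t ∈ H := by
    intro H U hH r hr t ht
    obtain ⟨a, ha, e, k, hk⟩ := hH _ ht
    obtain ⟨e', k', hk'⟩ := hX r t hr
    rwa [pe_lift_unique q hc hcop (e'.trans e.symm) hk' hk]
  have hq : ∀ r, r < D.nroots → ∀ t, q (X r t) = xg r t := fun r hr t => (hX r t hr).1
  have hrels : ∀ g ∈ D.steinbergRelsAB F,
      FreeGroup.lift (fun z : Fin D.nroots × F => X (z.1 : ℕ) z.2) g = 1 := by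
    have hl : ∀ r, r < D.nroots → ∀ t,
        FreeGroup.lift (fun z : Fin D.nroots × F => X (z.1 : ℕ) z.2) (D.stX r t) = X r t :=
      fun r hr t => by rw [ChevalleyDatum.stX, dif_pos hr, FreeGroup.lift_apply_of]
    rintro g (⟨r, t₁, t₂, hr, rfl⟩ | ⟨r, s, t, u, hr, hs, h1, h2, rfl⟩)
    · simp only [map_mul, map_inv, hl r hr]
      rw [mul_inv_eq_one]
      obtain ⟨U, hU, hm, -, -⟩ := hpair r hr r hr (neg_ne_self hF hr).symm
      obtain ⟨H, hinj, hH⟩ := exists_section q hc hcop hsurj hU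
      refine hinj _ (mul_mem (hmemH hH hr _ (hm _)) (hmemH hH hr _ (hm _))) _ (hmemH hH hr _ (hm _)) ?_
      rw [map_mul, hq r hr, hq r hr, hq r hr]
      exact Subtype.ext (xG_mul hF r t₁ t₂)
    · obtain ⟨U, hU, hm, hm', hmc⟩ := hpair r hr s hs h2
      obtain ⟨H, hinj, hH⟩ := exists_section q hc hcop hsurj hU
      have hw : FreeGroup.lift (fun z : Fin D.nroots × F => X (z.1 : ℕ) z.2)
          (D.stWord (D.commWord F r s t u)) =
          ((D.commWord F r s t u).map fun p => X p.1 p.2).prod := by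
        simp only [ChevalleyDatum.stWord, map_list_prod, List.map_map]
        refine congrArg List.prod (List.map_congr_left fun p hp => ?_)
        obtain ⟨c, hc, rfl⟩ := List.mem_map.1 hp
        exact hl _ (hF.comm_lt r s hr hs c hc) _
      simp only [map_mul, map_inv, hl r hr, hl s hs, hw]
      rw [mul_inv_eq_one]
      have k1 := hmemH hH hr t (hm t)
      have k2 := hmemH hH hs u (hm' u)
      refine hinj _ (mul_mem (mul_mem (mul_mem (inv_mem k2) (inv_mem k1)) k2) k1) _
        (list_prod_mem fun x hx => ?_) ?_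
      · obtain ⟨p, hp, rfl⟩ := List.mem_map.1 hx
        obtain ⟨c, hc, rfl⟩ := List.mem_map.1 hp
        exact hmemH hH (hF.comm_lt r s hr hs c hc) _ (hmc h1 c hc _)
      · apply Subtype.ext
        rw [map_mul, map_mul, map_mul, map_inv, map_inv, hq r hr, hq s hs, map_list_prod,
          List.map_map, SubmonoidClass.coe_list_prod, List.map_map]
        show (xG hF s u)⁻¹ * (xG hF r t)⁻¹ * xG hF s u * xG hF r t = _
        rw [mul_assoc _ (xG hF s u), xG_comm hF hr hs h1 h2,
          show (xG hF s u)⁻¹ * (xG hF r t)⁻¹ * (xG hF r t * xG hF s u *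
            wordG hF (D.commWord F r s t u)) = wordG hF (D.commWord F r s t u) by group, wordG]
        refine congrArg List.prod (List.map_congr_left fun p hp => ?_)
        obtain ⟨c, hc, rfl⟩ := List.mem_map.1 hp
        show _ = ((q (X _ _) : D.group F) : GL D.Idx F)
        rw [hq _ (hF.comm_lt r s hr hs c hc)]
  refine ⟨PresentedGroup.toGroup hrels, fun r hr t => ?_⟩
  show ((q (FreeGroup.lift _ (D.stX r t)) : D.group F) : GL D.Idx F) = _
  rw [ChevalleyDatum.stX, dif_pos hr, FreeGroup.lift_apply_of, hq r hr]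

end Cfsg.Agent.ChevExt
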