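import Cfsg.Agent.ChevExt.Central

/-!
For simply laced data with enough room the relations (R1), (R2) lift to every central extension,
over every field. The combinatorics is a certificate checked by the kernel.
-/

set_option autoImplicit false

namespace Cfsg.Agent.ChevExt

open Cfsg.Lie Cfsg.Agent.Chev
open scoped MatrixGroups commutatorElement

universe u v

/-- The root of `⁅x_r, x_s⁆`, when it is a single root element with a unit coefficient. -/
def sumR (D : ChevalleyDatum) (r s : ℕ) : Option ℕ :=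
  if s = r ∨ s = D.neg r then none
  else match D.commTerms s r with
    | [c] => some c.1
    | _ => none

/-- The root elements of `r` and `s` commute. -/
def comR (D : ChevalleyDatum) (r s : ℕ) : Bool :=
  r == s || (s != D.neg r && r != D.neg s && ((D.commTerms r s).isEmpty || (D.commTerms s r).isEmpty))

/-- The shape of a commutator relation in a simply laced datum, together with the decompositions of `α`. -/
def pairChk (D : ChevalleyDatum) (α : ℕ) (K : List (ℕ × ℕ)) (r s : ℕ) : Bool :=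
  s == r || s == D.neg r ||
    match D.commTerms s r with
    | [] => true
    | [c] => c.2.1.natAbs == 1 && c.2.2.1 == 1 && c.2.2.2 == 1 && comR D r c.1 && comR D s c.1 &&
        decide (c.1 < D.nroots) && (c.1 != α || decide ((r, s) ∈ K))
    | _ => false

/-- All pairs. -/
def pairsChk (D : ChevalleyDatum) (α : ℕ) (K : List (ℕ × ℕ)) : Bool :=
  (List.range D.nroots).all fun r => (List.range D.nroots).all fun s => pairChk D α K r s

/-- Every root commuting with `α` is a bracket of two roots commuting with `α`. -/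
def commChk (D : ChevalleyDatum) (α : ℕ) (L : List (ℕ × ℕ)) : Bool :=
  (List.range D.nroots).all fun s => s == D.neg α || !(comR D α s) ||
    ((fun p : ℕ × ℕ => decide (p.1 < D.nroots) && decide (p.2 < D.nroots) &&
      (sumR D p.1 p.2 == some s) && comR D α p.1 && comR D α p.2) (L.getD s (0, 0)))

/-- One Jacobi step `(μ + ν) + δ = μ + (ν + δ)`; `(g, e)` are the two middle roots. -/
def stepChk (D : ChevalleyDatum) (α : ℕ) (st : (ℕ × ℕ × ℕ) × ℕ × ℕ) : Bool :=
  decide (st.1.1 < D.nroots) && decide (st.1.2.1 < D.nroots) && decide (st.1.2.2 < D.nroots) &&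
  decide (st.2.1 < D.nroots) && decide (st.2.2 < D.nroots) &&
  sumR D st.1.1 st.1.2.1 == some st.2.1 && sumR D st.1.2.1 st.1.2.2 == some st.2.2 &&
  sumR D st.2.1 st.1.2.2 == some α && sumR D st.1.1 st.2.2 == some α &&
  comR D st.1.1 st.1.2.2 && comR D st.2.1 st.2.2 && comR D α st.2.2

/-- The pairs a step connects. -/
def stepPairs (st : (ℕ × ℕ × ℕ) × ℕ × ℕ) : List (ℕ × ℕ) :=
  [(st.1.1, st.2.2), (st.2.1, st.1.2.2), (st.2.2, st.1.1), (st.1.2.2, st.2.1)]

/-- The list `K` is reached from the first step; the steps are listed last to first. -/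
def reachChk (D : ChevalleyDatum) (α : ℕ) : List ((ℕ × ℕ × ℕ) × ℕ × ℕ) → Bool
  | [] => true
  | st :: l => stepChk D α st && reachChk D α l &&
      (l.isEmpty || (l.flatMap stepPairs).any fun p => p == (st.1.1, st.2.2) || p == (st.2.1, st.1.2.2))

/-- A certificate for lifting (R1) and (R2). -/
structure SimplyCert (D : ChevalleyDatum) where
  node : ℕ
  node_lt : node < D.rank
  nodes : allNodes D [node] = true
  K : List (ℕ × ℕ)
  L : List (ℕ × ℕ)
  steps : List ((ℕ × ℕ × ℕ) × ℕ × ℕ)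
  pairs : pairsChk D (D.simple node) K = true
  comm : commChk D (D.simple node) L = true
  reach : reachChk D (D.simple node) steps = true
  sub : (K.all fun p => decide (p ∈ steps.flatMap stepPairs)) = true
  ne : steps ≠ []

namespace CExt

variable {D : ChevalleyDatum} {hF : Facts.{u} D} {F : Type u} [Field F] {E : Type v} [Group E]
  (A : CExt hF F E)

/-- `⁅x_γ, x_δ⁆` is the root group of `c`, with a unit coefficient. -/
def Dec (_A : CExt hF F E) (c γ δ : ℕ) : Prop :=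
  γ < D.nroots ∧ δ < D.nroots ∧ c < D.nroots ∧ δ ≠ D.neg γ ∧
    ∃ e : F, e * e = 1 ∧ ∀ a b : F, ⁅xG hF γ a, xG hF δ b⁆ = xG hF c (e * a * b)

omit [Field F] [Group E] in
theorem ne_neg_of_comR {r s : ℕ} (hF : Facts.{u} D) (hr : r < D.nroots) (h : comR D r s = true) :
    s ≠ D.neg r := by
  simp only [comR, Bool.or_eq_true, Bool.and_eq_true, bne_iff_ne, beq_iff_eq] at h
  rcases h with rfl | ⟨⟨h1, -⟩, -⟩
  · exact (neg_ne_self hF hr).symm
  · exact h1

theorem imgComm_of_comR {r s : ℕ} (hr : r < D.nroots) (hs : s < D.nroots) (h : comR D r s = true) :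
    A.ImgComm r s := by
  intro a b
  simp only [comR, Bool.or_eq_true, Bool.and_eq_true, bne_iff_ne, beq_iff_eq,
    List.isEmpty_iff] at h
  rcases h with rfl | ⟨⟨h1, h2⟩, h3⟩
  · show _ = _
    rw [xG_mul, xG_mul, add_comm]
  by_cases hsr : s = r
  · subst hsr
    show _ = _
    rw [xG_mul, xG_mul, add_comm]
  rcases h3 with h3 | h3
  · have := xG_comm hF hr hs hsr h1 a b
    rw [ChevalleyDatum.commWord, h3, List.map_nil, wordG, List.map_nil, List.prod_nil, mul_one] at this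
    exact this.symm
  · have := xG_comm hF hs hr (Ne.symm hsr) h2 b a
    rw [ChevalleyDatum.commWord, h3, List.map_nil, wordG, List.map_nil, List.prod_nil, mul_one] at this
    exact this

variable (C : SimplyCert D)
include C

theorem pair_spec {r s : ℕ} (hr : r < D.nroots) (hs : s < D.nroots) (h1 : s ≠ r) (h2 : s ≠ D.neg r) :
    A.ImgComm r s ∧ D.commTerms s r = [] ∨
    ∃ c, sumR D r s = some c ∧ A.Dec c r s ∧ (c ≠ D.neg r ∧ A.ImgComm r c) ∧
      (c ≠ D.neg s ∧ A.ImgComm s c) ∧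
      (c = D.simple C.node → (r, s) ∈ C.K) ∧
      ∃ N : ℤ, D.commTerms s r = [(c, N, 1, 1)] := by
  have hc := C.pairs
  simp only [pairsChk, List.all_eq_true, List.mem_range] at hc
  have h := hc r hr s hs
  simp only [pairChk, Bool.or_eq_true, beq_iff_eq, h1, h2, false_or] at h
  have hnr : r ≠ D.neg s := fun e => h2 (by rw [e, neg_neg_root hF hs])
  cases hl : D.commTerms s r with
  | nil =>
    refine Or.inl ⟨A.imgComm_of_comR hr hs ?_, rfl⟩
    simp [comR, h2, hnr, hl]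
  | cons t l =>
    rw [hl] at h
    cases l with
    | cons => simp at h
    | nil =>
      simp only [Bool.and_eq_true, beq_iff_eq, decide_eq_true_eq, Bool.or_eq_true, bne_iff_ne] at h
      obtain ⟨⟨⟨⟨⟨⟨hN, hi⟩, hj⟩, hc1⟩, hc2⟩, hlt⟩, hK⟩ := h
      obtain ⟨c, N, i, j⟩ := t
      simp only at hN hi hj hc1 hc2 hlt hK
      subst hi hj
      have g1 := A.imgComm_of_comR hr hlt hc1
      have g2 := A.imgComm_of_comR hs hlt hc2
      refine Or.inr ⟨c, by simp [sumR, h1, h2, hl], ⟨hr, hs, hlt, h2, -(N : F), ?_, fun a b => ?_⟩,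
        ⟨ne_neg_of_comR hF hr hc1, g1⟩, ⟨ne_neg_of_comR hF hs hc2, g2⟩,
        fun e => hK.resolve_left (fun h => h e), N, rfl⟩
      · rcases Int.natAbs_eq N with e | e <;> rw [e, hN] <;> simp
      · have e := xG_comm hF hs hr (Ne.symm h1) hnr b a
        rw [ChevalleyDatum.commWord, hl, List.map_cons, List.map_nil, wordG, List.map_cons,
          List.map_nil, List.prod_cons, List.prod_nil, mul_one, pow_one, pow_one] at e
        rw [commutatorElement_def, e,
          show -(N : F) * a * b = (N : F) * -b * a by ring]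
        set w := xG hF c ((N : F) * -b * a)
        have hw1 : Commute (xG hF r a)⁻¹ w := (g1 a _).inv_left
        have hw2 : Commute (xG hF s b) w := g2 b _
        calc xG hF s b * xG hF r a * w * (xG hF r a)⁻¹ * (xG hF s b)⁻¹
            = xG hF s b * xG hF r a * (w * (xG hF r a)⁻¹) * (xG hF s b)⁻¹ := by group
          _ = xG hF s b * xG hF r a * ((xG hF r a)⁻¹ * w) * (xG hF s b)⁻¹ := by rw [hw1.eq]
          _ = xG hF s b * w * (xG hF s b)⁻¹ := by group
          _ = w := by rw [hw2.eq, mul_inv_cancel_right]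

theorem dec_of_sumR {r s c : ℕ} (hr : r < D.nroots) (hs : s < D.nroots) (h : sumR D r s = some c) :
    A.Dec c r s := by
  have h1 : s ≠ r ∧ s ≠ D.neg r := by
    constructor <;> (intro e; simp [sumR, e] at h)
  rcases A.pair_spec C hr hs h1.1 h1.2 with ⟨-, h0⟩ | ⟨c', hc', hd, -⟩
  · simp [sumR, h1.1, h1.2, h0] at h
  · rw [hc'] at h
    exact Option.some.inj h ▸ hd

theorem dec_facts {c γ δ : ℕ} (h : A.Dec c γ δ) :
    (c ≠ D.neg γ ∧ A.ImgComm γ c) ∧ (c ≠ D.neg δ ∧ A.ImgComm δ c) ∧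
      (c = D.simple C.node → (γ, δ) ∈ C.K) := by
  obtain ⟨hγ, hδ, hc, hne, e, he, hd⟩ := h
  have he0 : e ≠ 0 := left_ne_zero_of_mul_eq_one he
  have h11 := hd 1 1
  rw [mul_one, mul_one] at h11
  have hx : xG hF c e ≠ 1 := fun h => he0 ((xG_eq_one_iff hF hc).1 h)
  have hsr : δ ≠ γ := fun e' => hx (by
    rw [← h11, commutatorElement_eq_one_iff_commute, e']
    exact Commute.refl _)
  rcases A.pair_spec C hγ hδ hsr hne with ⟨h0, -⟩ | ⟨c', -, hd', g1, g2, hK, -⟩
  · exact absurd (h11.symm.trans (commutatorElement_eq_one_iff_commute.2 (h0 1 1))) hx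
  · obtain ⟨-, -, -, -, e', he', hd'⟩ := hd'
    have h11' := hd' 1 1
    rw [mul_one, mul_one, h11] at h11'
    obtain ⟨rfl, -⟩ := eq_of_x_eq hF hc he0 (congrArg Units.val h11')
    exact ⟨g1, g2, hK⟩

theorem commAt_node : A.CommAt (D.simple C.node) := by
  intro s hs hne hcomm
  have hα := hF.simple_lt C.node C.node_lt
  have hc := C.comm
  simp only [commChk, List.all_eq_true, List.mem_range] at hc
  have h := hc s hs
  have hcs : comR D (D.simple C.node) s = true := by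
    by_cases hsa : s = D.simple C.node
    · simp [comR, hsa]
    rcases A.pair_spec C hα hs hsa hne with ⟨-, h0⟩ | ⟨c, hc', ⟨-, -, hlt, -, e, he, hd⟩, -⟩
    · have hnr : D.simple C.node ≠ D.neg s := fun e => hne (by rw [e, neg_neg_root hF hs])
      simp [comR, hne, hnr, h0]
    · exfalso
      have h11 := hd 1 1
      rw [mul_one, mul_one, commutatorElement_eq_one_iff_commute.2 (hcomm 1 1)] at h11
      exact left_ne_zero_of_mul_eq_one he ((xG_eq_one_iff hF hlt).1 h11.symm)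
  simp only [hcs, Bool.not_true, Bool.or_false, Bool.or_eq_true, beq_iff_eq, hne, false_or,
    Bool.and_eq_true, decide_eq_true_eq] at h
  obtain ⟨⟨⟨⟨hg, hd'⟩, hsum⟩, h1⟩, h2⟩ := h
  obtain ⟨-, -, -, -, e, he, hd⟩ := A.dec_of_sumR C hg hd' hsum
  intro a b
  refine A.commute_of_bracket (v := A.lift (C.L.getD s (0, 0)).1 (e * b))
    (w := A.lift (C.L.getD s (0, 0)).2 1) ?_ ?_ ?_
  · rw [A.θ_lift, A.θ_lift]; exact A.imgComm_of_comR hα hg h1 _ _
  · rw [A.θ_lift, A.θ_lift]; exact A.imgComm_of_comR hα hd' h2 _ _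
  · rw [A.θ_lift, A.θ_lift, A.θ_lift, hd, mul_one, ← mul_assoc, he, one_mul]

theorem commAt_all : ∀ r, r < D.nroots → A.CommAt r :=
  all_of_node (fun r => A.CommAt r) C.nodes C.node_lt (A.commAt_node C)
    (fun _ _ hi hr h => CommAt.refl A hi hr h) hF

/-- Lifts of equal or commuting root elements commute. -/
theorem pc_of_img {r s : ℕ} (hr : r < D.nroots) (hs : s < D.nroots) (hne : s ≠ D.neg r)
    (h : A.ImgComm r s) : A.PC r s :=
  A.commAt_all C r hr s hs hne h

theorem pc_self {r : ℕ} (hr : r < D.nroots) : A.PC r r :=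
  A.pc_of_img C hr hr (neg_ne_self hF hr).symm fun a b => by
    show _ = _
    rw [xG_mul, xG_mul, add_comm]

theorem Br_add {c γ δ : ℕ} (h : A.Dec c γ δ) :
    (∀ a a' b, A.Br γ δ (a + a') b = A.Br γ δ a b * A.Br γ δ a' b) ∧
      ∀ a b b', A.Br γ δ a (b + b') = A.Br γ δ a b * A.Br γ δ a b' := by
  obtain ⟨⟨n1, g1⟩, ⟨n2, g2⟩, -⟩ := A.dec_facts C h
  obtain ⟨hγ, hδ, hc, hne, e, he, hd⟩ := h
  have hm : ∀ a b, A.θ (A.Br γ δ a b) = xG hF c (e * a * b) := fun a b => by rw [A.θ_Br, hd]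
  refine ⟨fun a a' b => ?_, fun a b b' => ?_⟩
  · have h1 : A.Br γ δ (a + a') b = ⁅A.lift γ a * A.lift γ a', A.lift δ b⁆ :=
      (A.br_eq_Br (by rw [map_mul, A.θ_lift, A.θ_lift, xG_mul]) (A.θ_lift δ b)).symm
    have h2 : Commute (A.lift γ a) (A.Br γ δ a' b) :=
      PC.of_map A (A.pc_of_img C hγ hc n1 g1) (A.θ_lift γ a) (hm a' b)
    rw [h1, (PC.of_map A (A.pc_self C hc) (hm a b) (hm a' b)).eq,
      ← mul_inv_eq_iff_eq_mul.2 h2.eq]
    simp only [Br, commutatorElement_def]; group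
  · have h1 : A.Br γ δ a (b + b') = ⁅A.lift γ a, A.lift δ b * A.lift δ b'⁆ :=
      (A.br_eq_Br (A.θ_lift γ a) (by rw [map_mul, A.θ_lift, A.θ_lift, xG_mul])).symm
    have h2 : Commute (A.lift δ b) (A.Br γ δ a b') :=
      PC.of_map A (A.pc_of_img C hδ hc n2 g2) (A.θ_lift δ b) (hm a b')
    rw [h1]
    nth_rewrite 1 [← mul_inv_eq_iff_eq_mul.2 h2.eq]
    simp only [Br, commutatorElement_def]; group

theorem Br_neg_left {c γ δ : ℕ} (h : A.Dec c γ δ) (a b : F) :
    A.Br γ δ (-a) b = (A.Br γ δ a b)⁻¹ := by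
  have h0 := (A.Br_add C h).1 0 0 b
  rw [add_zero] at h0
  have h1 := (A.Br_add C h).1 a (-a) b
  rw [add_neg_cancel, left_eq_mul.1 h0] at h1
  exact eq_inv_of_mul_eq_one_right h1.symm

theorem Br_neg_right {c γ δ : ℕ} (h : A.Dec c γ δ) (a b : F) :
    A.Br γ δ a (-b) = (A.Br γ δ a b)⁻¹ := by
  have h0 := (A.Br_add C h).2 a 0 0
  rw [add_zero] at h0
  have h1 := (A.Br_add C h).2 a b (-b)
  rw [add_neg_cancel, left_eq_mul.1 h0] at h1
  exact eq_inv_of_mul_eq_one_right h1.symm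

/-- Every value at `p` is a value at `q` with second argument one. -/
def Norm1 (q p : ℕ × ℕ) : Prop := ∀ a b, ∃ a', A.Br p.1 p.2 a b = A.Br q.1 q.2 a' 1

theorem norm_swap {c γ δ : ℕ} (h : A.Dec c γ δ) {q : ℕ × ℕ} (hn : Norm1 A q (γ, δ)) :
    Norm1 A q (δ, γ) := fun a b => by
  obtain ⟨a', ha'⟩ := hn (-b) a
  refine ⟨a', ?_⟩
  rw [← ha', A.Br_neg_left C h, Br, Br, commutatorElement_inv]

theorem step_spec {α : ℕ} (hα : α < D.nroots) {μ ν δ g η : ℕ}
    (h : stepChk D α ((μ, ν, δ), g, η) = true) :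
    A.Dec α g δ ∧ A.Dec α μ η ∧ ∃ e1 e2 : F, e1 * e1 = 1 ∧ e2 * e2 = 1 ∧
      ∀ a b c, A.Br μ η a (e2 * b * c) = A.Br g δ (e1 * a * b) c := by
  simp only [stepChk, Bool.and_eq_true, decide_eq_true_eq, beq_iff_eq] at h
  obtain ⟨⟨⟨⟨⟨⟨⟨⟨⟨⟨⟨hμ, hν⟩, hδ⟩, hg⟩, hη⟩, s1⟩, s2⟩, s3⟩, s4⟩, c1⟩, c2⟩, c3⟩ := h
  obtain ⟨-, -, -, -, e1, he1, hd1⟩ := A.dec_of_sumR C hμ hν s1
  obtain ⟨-, -, -, -, e2, he2, hd2⟩ := A.dec_of_sumR C hν hδ s2
  have d3 := A.dec_of_sumR C hg hδ s3
  refine ⟨d3, A.dec_of_sumR C hμ hη s4, e1, e2, he1, he2, fun a b c => ?_⟩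
  obtain ⟨-, -, -, -, e3, -, hd3⟩ := d3
  set x := A.lift μ a with hx
  set y := A.lift ν b with hy
  set z := A.lift δ c with hz
  have hD : A.θ ⁅x, y⁆ = xG hF g (e1 * a * b) := by
    rw [map_commutatorElement, hx, hy, A.θ_lift, A.θ_lift, hd1]
  have hE : A.θ ⁅y, z⁆ = xG hF η (e2 * b * c) := by
    rw [map_commutatorElement, hy, hz, A.θ_lift, A.θ_lift, hd2]
  have h1 : A.Br μ η a (e2 * b * c) = ⁅x, ⁅y, z⁆⁆ := (A.br_eq_Br (A.θ_lift μ a) hE).symm
  have h2 : A.Br g δ (e1 * a * b) c = ⁅⁅x, y⁆, z⁆ := (A.br_eq_Br hD (A.θ_lift δ c)).symm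
  have cxz : Commute x z := PC.of_map A (A.pc_of_img C hμ hδ (ne_neg_of_comR hF hμ c1)
    (A.imgComm_of_comR hμ hδ c1)) (A.θ_lift μ a) (A.θ_lift δ c)
  have cDE : Commute ⁅x, y⁆ ⁅y, z⁆ :=
    PC.of_map A (A.pc_of_img C hg hη (ne_neg_of_comR hF hg c2) (A.imgComm_of_comR hg hη c2)) hD hE
  have cXE : Commute ⁅⁅x, y⁆, z⁆ ⁅y, z⁆ :=
    PC.of_map A (A.pc_of_img C hα hη (ne_neg_of_comR hF hα c3) (A.imgComm_of_comR hα hη c3))
      (a := e3 * (e1 * a * b) * c)
      (by rw [map_commutatorElement, hD, hz, A.θ_lift, hd3]) hE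
  rw [h1, h2]
  calc ⁅x, ⁅y, z⁆⁆ = ⁅x * y * x⁻¹, x * z * x⁻¹⁆ * ⁅y, z⁆⁻¹ := by
        simp only [commutatorElement_def]; group
    _ = ⁅⁅x, y⁆ * y, z⁆ * ⁅y, z⁆⁻¹ := by
        rw [cxz.eq, mul_inv_cancel_right, show x * y * x⁻¹ = ⁅x, y⁆ * y by
          simp only [commutatorElement_def]; group]
    _ = ⁅x, y⁆ * ⁅y, z⁆ * ⁅x, y⁆⁻¹ * ⁅⁅x, y⁆, z⁆ * ⁅y, z⁆⁻¹ := by
        simp only [commutatorElement_def]; group
    _ = ⁅y, z⁆ * ⁅⁅x, y⁆, z⁆ * ⁅y, z⁆⁻¹ := by rw [cDE.eq, mul_inv_cancel_right]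
    _ = ⁅⁅x, y⁆, z⁆ := by rw [← cXE.eq, mul_inv_cancel_right]

/-- The base pair of a list of steps. -/
def basePair (l : List ((ℕ × ℕ × ℕ) × ℕ × ℕ)) : ℕ × ℕ :=
  (l.getLastD ((0, 0, 0), 0, 0)).1.1 |> fun μ => (μ, (l.getLastD ((0, 0, 0), 0, 0)).2.2)

theorem reach_spec {α : ℕ} (hα : α < D.nroots) :
    ∀ l : List ((ℕ × ℕ × ℕ) × ℕ × ℕ), reachChk D α l = true → l ≠ [] →
      A.Dec α (basePair l).1 (basePair l).2 ∧
        ∀ p ∈ l.flatMap stepPairs, Norm1 A (basePair l) p := by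
  intro l
  induction l with
  | nil => exact fun _ h => absurd rfl h
  | cons st l ih =>
    intro h _
    simp only [reachChk, Bool.and_eq_true, Bool.or_eq_true, List.isEmpty_iff, List.any_eq_true,
      beq_iff_eq] at h
    obtain ⟨⟨hst, hl⟩, hcon⟩ := h
    obtain ⟨⟨μ, ν, δ⟩, g, η⟩ := st
    obtain ⟨d3, d4, e1, e2, he1, he2, hmove⟩ := A.step_spec C hα hst
    have fwd : ∀ q, Norm1 A q (g, δ) → Norm1 A q (μ, η) := fun q hn a b => by
      obtain ⟨a', ha'⟩ := hn (e1 * a * (e2 * b)) 1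
      refine ⟨a', ?_⟩
      rw [← ha', ← hmove, ← mul_assoc, he2, one_mul, mul_one]
    have back : ∀ q, Norm1 A q (μ, η) → Norm1 A q (g, δ) := fun q hn y c => by
      obtain ⟨a', ha'⟩ := hn (e1 * y) (e2 * 1 * c)
      refine ⟨a', ?_⟩
      rw [← ha', hmove, ← mul_assoc, he1, one_mul, mul_one]
    have four : ∀ q, Norm1 A q (μ, η) → ∀ p ∈ stepPairs ((μ, ν, δ), g, η), Norm1 A q p := by
      intro q hn p hp
      simp only [stepPairs, List.mem_cons, List.not_mem_nil, or_false] at hp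
      rcases hp with rfl | rfl | rfl | rfl
      exacts [hn, back q hn, A.norm_swap C d4 hn, A.norm_swap C d3 (back q hn)]
    cases hl' : l with
    | nil =>
      refine ⟨d4, ?_⟩
      rw [List.flatMap_cons, List.flatMap_nil, List.append_nil]
      refine four _ ?_
      show Norm1 A (μ, η) (μ, η)
      intro a b
      have h1 : A.Br μ η a b = A.Br μ η (e1 * (e1 * a * (e2 * b))) e2 := by
        have ha := hmove a (e2 * b) 1
        have hy := hmove (e1 * (e1 * a * (e2 * b))) 1 1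
        rw [mul_one, ← mul_assoc e2 e2, he2, one_mul] at ha
        rw [mul_one, mul_one, mul_one, ← mul_assoc e1 e1 (e1 * a * (e2 * b)), he1, one_mul] at hy
        rw [ha, hy]
      rcases mul_self_eq_one_iff.1 he2 with e | e
      · refine ⟨e1 * (e1 * a * (e2 * b)), ?_⟩
        rw [h1, e]
      · refine ⟨-(e1 * (e1 * a * (e2 * b))), ?_⟩
        rw [h1, e, A.Br_neg_right C d4, A.Br_neg_left C d4]
    | cons st' l' =>
      have hne : l ≠ [] := by simp [hl']
      obtain ⟨hb, hn⟩ := ih hl hne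
      have hbase : basePair (((μ, ν, δ), g, η) :: l) = basePair l := by
        simp [basePair, hl']
      rw [← hl', hbase]
      refine ⟨hb, fun p hp => ?_⟩
      rw [List.flatMap_cons, List.mem_append] at hp
      rcases hp with hp | hp
      · obtain ⟨p', hp', e⟩ := hcon.resolve_left hne
        refine four _ ?_ p hp
        rcases e with rfl | rfl
        exacts [hn _ hp', fwd _ (hn _ hp')]
      · exact hn p hp

/-- Any two expressions of a root element as a bracket agree in `E`. -/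
def Canon (c : ℕ) : Prop :=
  (∃ γ δ, A.Dec c γ δ) ∧ ∀ γ δ γ' δ', A.Dec c γ δ → A.Dec c γ' δ' → ∀ a b a' b',
    A.θ (A.Br γ δ a b) = A.θ (A.Br γ' δ' a' b') → A.Br γ δ a b = A.Br γ' δ' a' b'

theorem canon_node : Canon A (D.simple C.node) := by
  have hα := hF.simple_lt C.node C.node_lt
  obtain ⟨hb, hn⟩ := A.reach_spec C hα C.steps C.reach C.ne
  set q := basePair C.steps
  refine ⟨⟨_, _, hb⟩, fun γ δ γ' δ' h h' a b a' b' he => ?_⟩
  have hsub := C.sub
  simp only [List.all_eq_true, decide_eq_true_eq] at hsub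
  obtain ⟨x, hx⟩ := hn _ (hsub _ ((A.dec_facts C h).2.2 rfl)) a b
  obtain ⟨x', hx'⟩ := hn _ (hsub _ ((A.dec_facts C h').2.2 rfl)) a' b'
  simp only at hx hx'
  rw [hx, hx'] at he ⊢
  obtain ⟨-, -, -, -, e, he2, hd⟩ := hb
  rw [A.θ_Br, A.θ_Br, hd, hd, mul_one, mul_one] at he
  rw [mul_left_cancel₀ (left_ne_zero_of_mul_eq_one he2) (xG_inj hF hα he)]

omit C in
theorem Dec.refl {i c γ δ : ℕ} (hi : i < D.rank) (h : A.Dec c γ δ) :
    A.Dec (D.reflectRoot i c) (D.reflectRoot i γ) (D.reflectRoot i δ) := by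
  obtain ⟨hγ, hδ, hc, hne, e, he, hd⟩ := h
  refine ⟨hF.refl_lt i hi _ hγ, hF.refl_lt i hi _ hδ, hF.refl_lt i hi _ hc, fun e' => hne ?_,
    A.eta i c * e * A.eta i γ * A.eta i δ, ?_, fun a b => ?_⟩
  · rw [← hF.refl_refl i hi δ hδ, e', hF.refl_neg i hi _ (hF.refl_lt i hi _ hγ),
      hF.refl_refl i hi γ hγ]
  · linear_combination (A.eta i c * A.eta i c * e * e * A.eta i δ * A.eta i δ) * A.eta_sq hi hγ +
      (A.eta i c * A.eta i c * e * e) * A.eta_sq hi hδ + (e * e) * A.eta_sq hi hc + he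
  · have := congrArg (fun g => nS hF i * g * (nS hF i)⁻¹) (hd (A.eta i γ * a) (A.eta i δ * b))
    simp only [A.conj_xG hi hc] at this
    rw [show ∀ w x y : GL D.Idx F, w * ⁅x, y⁆ * w⁻¹ = ⁅w * x * w⁻¹, w * y * w⁻¹⁆ from
      fun w x y => by simp only [commutatorElement_def]; group, A.conj_xG hi hγ, A.conj_xG hi hδ,
      ← mul_assoc, A.eta_sq hi hγ, one_mul, ← mul_assoc, A.eta_sq hi hδ, one_mul] at this
    rw [this]
    congr 1
    ring

omit C in
theorem Canon.refl {i c : ℕ} (hi : i < D.rank) (hc : c < D.nroots) (h : Canon A c) :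
    Canon A (D.reflectRoot i c) := by
  obtain ⟨⟨γ, δ, hd⟩, hu⟩ := h
  refine ⟨⟨_, _, Dec.refl A hi hd⟩, fun γ δ γ' δ' h1 h2 a b a' b' he => ?_⟩
  obtain ⟨w, hw⟩ := A.exists_nS (i := i)
  have d1 := Dec.refl A hi h1
  have d2 := Dec.refl A hi h2
  rw [hF.refl_refl i hi c hc] at d1 d2
  have e1 := A.Br_refl hi h1.1 h1.2.1 hw a b
  have e2 := A.Br_refl hi h2.1 h2.2.1 hw a' b'
  have e3 := hu _ _ _ _ d1 d2 _ _ _ _ (by
    rw [← e1, ← e2, map_mul, map_mul, map_mul, map_mul, he])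
  rw [← e1, ← e2] at e3
  exact mul_left_cancel (mul_right_cancel e3)

theorem canon_all : ∀ c, c < D.nroots → Canon A c :=
  all_of_node (fun c => Canon A c) C.nodes C.node_lt (A.canon_node C)
    (fun _ _ hi hr h => Canon.refl A hi hr h) hF

open Classical in
/-- The canonical lift of a root element. -/
noncomputable def canX (c : ℕ) (t : F) : E :=
  if hc : c < D.nroots then
    have h := (A.canon_all C c hc).1
    A.Br h.choose h.choose_spec.choose (h.choose_spec.choose_spec.2.2.2.2.choose * t) 1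
  else 1

theorem θ_canX (c : ℕ) (t : F) : A.θ (A.canX C c t) = xG hF c t := by
  unfold canX
  split_ifs with hc
  · have h := (A.canon_all C c hc).1
    obtain ⟨he, hd⟩ := h.choose_spec.choose_spec.2.2.2.2.choose_spec
    rw [A.θ_Br, hd, mul_one, ← mul_assoc, he, one_mul]
  · rw [map_one]
    exact Units.ext (by rw [xG_val, x_of_ge hc]; rfl)

theorem canX_eq {c γ δ : ℕ} (h : A.Dec c γ δ) {a b : F} {t : F}
    (ht : A.θ (A.Br γ δ a b) = xG hF c t) : A.Br γ δ a b = A.canX C c t := by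
  have hc := h.2.2.1
  have hθ := A.θ_canX C c t
  unfold canX at hθ ⊢
  rw [dif_pos hc] at hθ ⊢
  exact (A.canon_all C c hc).2 _ _ _ _ h (A.canon_all C c hc).1.choose_spec.choose_spec _ _ _ _
    (ht.trans hθ.symm)

/-- The subgroup generated by the canonical lifts. -/
def canSub : Subgroup E :=
  Subgroup.closure {g | ∃ (r : ℕ) (t : F), r < D.nroots ∧ g = A.canX C r t}

theorem canX_mem (r : ℕ) (t : F) : A.canX C r t ∈ A.canSub C := by
  by_cases hr : r < D.nroots
  · exact Subgroup.subset_closure ⟨r, t, hr, rfl⟩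
  · rw [canX, dif_neg hr]
    exact one_mem _

theorem canX_add {r : ℕ} (hr : r < D.nroots) (t₁ t₂ : F) :
    A.canX C r t₁ * A.canX C r t₂ = A.canX C r (t₁ + t₂) := by
  have h := (A.canon_all C r hr).1
  have hadd := (A.Br_add C h.choose_spec.choose_spec).1
  simp only [canX, dif_pos hr, mul_add, hadd]

theorem canX_comm {r s : ℕ} (hr : r < D.nroots) (hs : s < D.nroots) (hsr : s ≠ r)
    (hsn : s ≠ D.neg r) (t u : F) :
    (A.canX C s u)⁻¹ * (A.canX C r t)⁻¹ * A.canX C s u * A.canX C r t =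
      ((D.commWord F r s t u).map fun p => A.canX C p.1 p.2).prod := by
  have hinv : ∀ {r}, r < D.nroots → ∀ t, A.θ (A.canX C r t)⁻¹ = xG hF r (-t) := fun hr t => by
    rw [map_inv, A.θ_canX, xG_inv]
  rw [show (A.canX C s u)⁻¹ * (A.canX C r t)⁻¹ * A.canX C s u * A.canX C r t =
    ⁅(A.canX C s u)⁻¹, (A.canX C r t)⁻¹⁆ by rw [commutatorElement_def, inv_inv, inv_inv],
    A.br_eq_Br (hinv hs u) (hinv hr t)]
  have hne : r ≠ D.neg s := fun e => hsn (by rw [e, neg_neg_root hF hs])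
  rcases A.pair_spec C hs hr (Ne.symm hsr) hne with ⟨g, h0⟩ | ⟨c, -, hd, -, -, -, N, hN⟩
  · rw [ChevalleyDatum.commWord, h0, List.map_nil, List.map_nil, List.prod_nil, Br,
      commutatorElement_eq_one_iff_commute]
    exact A.pc_of_img C hs hr hne g _ _
  · rw [ChevalleyDatum.commWord, hN, List.map_cons, List.map_nil, List.map_cons, List.map_nil,
      List.prod_cons, List.prod_nil, mul_one]
    simp only [pow_one]
    refine A.canX_eq C hd ?_
    rw [A.θ_Br, commutatorElement_def, xG_inv, xG_inv, neg_neg, neg_neg,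
      mul_assoc (xG hF s (-u) * xG hF r (-t)), xG_comm hF hr hs hsr hsn t u, ChevalleyDatum.commWord,
      hN, List.map_cons, List.map_nil, wordG, List.map_cons, List.map_nil, List.prod_cons,
      List.prod_nil, mul_one, pow_one, pow_one,
      show xG hF s (-u) * xG hF r (-t) * (xG hF r t * xG hF s u * xG hF c ((N : F) * -t * u)) =
        xG hF s (-u) * (xG hF r (-t) * xG hF r t) * xG hF s u * xG hF c ((N : F) * -t * u) by group,
      xG_mul, neg_add_cancel, xG_zero, mul_one, xG_mul, neg_add_cancel, xG_zero, one_mul]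

/-- The lift given by the canonical elements. -/
noncomputable def toLift : Lift hF F (A.canSub C) where
  X r t := ⟨A.canX C r t, A.canX_mem C r t⟩
  θ := A.θ.comp (A.canSub C).subtype
  θ_X r t := A.θ_canX C r t
  add r hr t₁ t₂ := Subtype.ext (A.canX_add C hr t₁ t₂)
  comm r s hr hs hsr hsn t u := by
    apply Subtype.ext
    rw [SubmonoidClass.coe_list_prod, List.map_map]
    exact A.canX_comm C hr hs hsr hsn t u
  gen := by
    refine eq_top_iff.2 ?_
    refine le_of_eq_of_le (Subgroup.closure_closure_coe_preimage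
      (k := {g | ∃ (r : ℕ) (t : F), r < D.nroots ∧ g = A.canX C r t})).symm ?_
    exact Subgroup.closure_mono fun g ⟨r, t, hr, e⟩ => ⟨r, t, hr, Subtype.ext e⟩

end CExt

end Cfsg.Agent.ChevExt
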