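import Cfsg.Agent.ChevExt.Equi
import Cfsg.Agent.Chev.Sound

/-!
A quick check that reflections carry the roots of commutators along, through the packed tables.
-/

set_option autoImplicit false

namespace Cfsg.Agent.ChevExt

open Cfsg.Lie Cfsg.Agent.Chev

universe u

/-- The check at the fundamental root `i`. -/
noncomputable def termsReflFast (D : ChevalleyDatum) (T : Cert) (i : ℕ) : Bool :=
  allBelow (fun r => force (T.cW i r) fun r' => allBelow (fun s => force (T.cW i s) fun s' =>
    (T.cTerms D r s).all fun c => force (T.cW i c.1) fun c' =>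
      (T.cTerms D r' s').any fun q => Nat.beq q.1 c') D.nroots) D.nroots

theorem termsRefl_of_fast {D : ChevalleyDatum} {T : Cert} (h : Checks D T) (hF : Facts.{u} D)
    (hc : allBelow (fun i => termsReflFast D T i) D.rank = true) : TermsRefl D := by
  simp only [allBelow_iff, termsReflFast, force_eq, List.all_eq_true, List.any_eq_true, nbeq_iff]
    at hc
  intro i hi r hr s hs _ _ c hc'
  have hlt := hF.comm_lt r s hr hs c hc'
  rw [(refl_split h hi hlt).1, (refl_split h hi hr).1, (refl_split h hi hs).1]
  rw [commTerms_eq h] at hc'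
  obtain ⟨q, hq, e⟩ := hc i hi r hr s hs c hc'
  rw [List.mem_map]
  exact ⟨q, by rw [commTerms_eq h]; exact hq, e⟩

end Cfsg.Agent.ChevExt
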