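import Cfsg.Agent.ChevExt.TorusSys
import Cfsg.Agent.ChevExt.TermsFast
import Cfsg.Agent.ChevExt.Simply
import Mathlib.Algebra.Polynomial.Roots

/-!
Over fields with more than four elements the torus separates the roots; the combinatorics is a
certificate checked by the kernel.
-/

set_option autoImplicit false

namespace Cfsg.Agent.ChevExt

open Cfsg.Lie Cfsg.Agent.Chev
open scoped MatrixGroups commutatorElement

universe u v

/-- Some exponent vector kills `b` and has a small exponent at `a`. -/
def sepChk (D : ChevalleyDatum) (cands : List (List ℤ)) (b a : ℕ) : Bool :=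
  cands.any fun m => dot D m b == 0 && dot D m a != 0 && decide ((dot D m a).natAbs ≤ 3)

/-- Some exponent vector has exponent one at `r`. -/
def unitChk (D : ChevalleyDatum) (cands : List (List ℤ)) (r : ℕ) : Bool :=
  cands.any fun m => dot D m r == 1

/-- The root `r` is a factor of the commutator of two roots commuting with it. -/
def brackChk (D : ChevalleyDatum) (cands : List (List ℤ)) (r : ℕ) (p : ℕ × ℕ) : Bool :=
  decide (p.1 < D.nroots) && decide (p.2 < D.nroots) && p.2 != p.1 && p.2 != D.neg p.1 &&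
  comR D r p.1 && comR D r p.2 &&
  ((D.commTerms p.1 p.2).filter fun q => q.1 == r).length == 1 &&
  (D.commTerms p.1 p.2).all fun q =>
    if q.1 = r then q.2.1.natAbs == 1 && q.2.2.2 == 1
    else comR D r q.1 && (sepChk D cands r q.1 || sepChk D cands q.1 r)

/-- All the checks. -/
def torChk (D : ChevalleyDatum) (cands : List (List ℤ)) (brs : List (ℕ × ℕ × ℕ)) : Bool :=
  ((List.range D.nroots).all fun r =>
    (cands.any fun m => dot D m r != 0 && decide ((dot D m r).natAbs ≤ 3)) &&
    (unitChk D cands r || brs.any fun b => b.1 == r && brackChk D cands r b.2)) &&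
  ((List.range D.nroots).all fun k => (List.range D.nroots).all fun s =>
    decide (k < half D) || decide (s ≤ k) || sepChk D cands s k || sepChk D cands k s)

variable {F : Type u} [Field F]

theorem exists_pow_ne_one (h : ∃ s : Finset F, 4 < s.card) {k : ℕ} (hk : 0 < k) (hk3 : k ≤ 3) :
    ∃ l : Fˣ, l ^ k ≠ 1 := by
  classical
  obtain ⟨s, hs⟩ := h
  by_contra hcon
  push Not at hcon
  have hsub : s ⊆ insert 0 (Polynomial.nthRoots k (1 : F)).toFinset := by
    intro x _
    by_cases hx : x = 0
    · simp [hx]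
    · refine Finset.mem_insert_of_mem ?_
      rw [Multiset.mem_toFinset, Polynomial.mem_nthRoots hk]
      have := congrArg Units.val (hcon (Units.mk0 x hx))
      simpa using this
  have h1 := (Finset.card_le_card hsub).trans (Finset.card_insert_le _ _)
  have h2 := (Multiset.toFinset_card_le _).trans (Polynomial.card_nthRoots k (1 : F))
  omega

theorem exists_avoid (h : ∃ s : Finset F, 4 < s.card) :
    ∃ x : F, x ≠ 0 ∧ 1 + x ≠ 0 ∧ x ^ 2 + x + 1 ≠ 0 := by
  classical
  obtain ⟨s, hs⟩ := h
  by_contra hcon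
  push Not at hcon
  open Polynomial in
  have hsub : s ⊆ {0, -1} ∪ ((X ^ 2 + X + 1 : F[X]).roots).toFinset := by
    intro x _
    by_cases hx : x = 0
    · simp [hx]
    by_cases hx1 : 1 + x = 0
    · simp [eq_neg_of_add_eq_zero_right hx1]
    refine Finset.mem_union_right _ ?_
    rw [Multiset.mem_toFinset, mem_roots']
    refine ⟨fun e => ?_, ?_⟩
    · have := congrArg (fun p => Polynomial.eval 0 p) e
      simp at this
    · simp [IsRoot, hcon x hx hx1]
  open Polynomial in
  have hd : (X ^ 2 + X + 1 : F[X]).natDegree ≤ 2 := by compute_degree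
  have h1 := (Finset.card_le_card hsub).trans (Finset.card_union_le _ _)
  have h2 := (Multiset.toFinset_card_le _).trans
    (Polynomial.card_roots' (Polynomial.X ^ 2 + Polynomial.X + 1 : Polynomial F))
  have h3 : ({0, -1} : Finset F).card ≤ 2 := Finset.card_le_two
  omega

variable {D : ChevalleyDatum}

theorem exists_chi_ne (h : ∃ s : Finset F, 4 < s.card) {m : List ℤ} {r : ℕ}
    (h0 : dot D m r ≠ 0) (h3 : (dot D m r).natAbs ≤ 3) :
    ∃ l : Fˣ, chiU (D := D) (powTor D m l) r ≠ 1 := by
  obtain ⟨l, hl⟩ := exists_pow_ne_one h (Int.natAbs_pos.2 h0) h3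
  refine ⟨l, ?_⟩
  rw [chiU_powTor]
  rcases Int.natAbs_eq (dot D m r) with e | e <;> rw [e] <;> simpa using hl

theorem moves_of_chk (h : ∃ s : Finset F, 4 < s.card) {cands : List (List ℤ)} {b a : ℕ}
    (hc : sepChk D cands b a = true) : Moves D F b a := by
  simp only [sepChk, List.any_eq_true, Bool.and_eq_true, beq_iff_eq, bne_iff_ne,
    decide_eq_true_eq] at hc
  obtain ⟨m, -, ⟨h0, ha⟩, h3⟩ := hc
  obtain ⟨l, hl⟩ := exists_chi_ne h ha h3
  exact ⟨powTor D m l, by rw [chiU_powTor, h0, zpow_zero], hl⟩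

/-- A certificate of separation by the torus. -/
structure TorCert (D : ChevalleyDatum) where
  cands : List (List ℤ)
  brs : List (ℕ × ℕ × ℕ)
  chk : torChk D cands brs = true
  refl : TermsRefl D

variable {hF : Facts.{u} D} {E : Type v} [Group E] (A : CExt hF F E) (C : TorCert D)
  (h : ∃ s : Finset F, 4 < s.card)

include C h

theorem tor_move : ∀ r < D.nroots, ∃ c : Fin D.rank → Fˣ, chiU (D := D) c r ≠ 1 := by
  intro r hr
  have hc := C.chk
  simp only [torChk, Bool.and_eq_true, List.all_eq_true, List.mem_range, List.any_eq_true,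
    bne_iff_ne, decide_eq_true_eq] at hc
  obtain ⟨m, -, h0, h3⟩ := (hc.1 r hr).1
  obtain ⟨l, hl⟩ := exists_chi_ne h h0 h3
  exact ⟨_, hl⟩

theorem tor_pc : ∀ r < D.nroots, A.PC r r := by
  intro r hr
  have hc := C.chk
  simp only [torChk, Bool.and_eq_true, List.all_eq_true, List.mem_range, Bool.or_eq_true,
    List.any_eq_true, beq_iff_eq] at hc
  rcases (hc.1 r hr).2 with hu | ⟨⟨r', γ, δ⟩, -, rfl, hb⟩
  · simp only [unitChk, List.any_eq_true, beq_iff_eq] at hu
    obtain ⟨m, -, hm⟩ := hu
    obtain ⟨x, h1, h2, h3⟩ := exists_avoid h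
    exact A.PC_self_of_units hr (fun v => ⟨powTor D m v, by rw [chiU_powTor, hm, zpow_one]⟩) h1 h2 h3
  · simp only [brackChk, Bool.and_eq_true, decide_eq_true_eq, bne_iff_ne, beq_iff_eq,
      List.all_eq_true] at hb
    obtain ⟨⟨⟨⟨⟨⟨⟨hγ, hδ⟩, hne⟩, hne'⟩, c1⟩, c2⟩, hlen⟩, hall⟩ := hb
    obtain ⟨c, hcmem⟩ := List.exists_mem_of_length_pos (hlen.symm ▸ Nat.one_pos)
    rw [List.mem_filter, beq_iff_eq] at hcmem
    obtain ⟨l₁, l₂, hl⟩ := List.append_of_mem hcmem.1
    have hc0 := hall c hcmem.1
    rw [if_pos hcmem.2, Bool.and_eq_true, beq_iff_eq, beq_iff_eq] at hc0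
    obtain ⟨c₁, N, i, j⟩ := c
    obtain ⟨hN, rfl⟩ := hc0
    obtain rfl : c₁ = r' := hcmem.2
    have hother : ∀ q ∈ l₁ ++ l₂, q.1 ≠ c₁ := by
      intro q hq e
      rw [hl, List.filter_append, List.filter_cons_of_pos (by simp)] at hlen
      simp only [List.length_append, List.length_cons] at hlen
      have hmem : ∀ l : List (ℕ × ℤ × ℕ × ℕ), q ∈ l →
          0 < (l.filter fun p => p.1 == c₁).length := fun l h =>
        List.length_pos_of_mem (List.mem_filter.2 ⟨h, beq_iff_eq.2 e⟩)
      rcases List.mem_append.1 hq with hq | hq <;>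
        (have := hmem _ hq; omega)
    refine A.PC_self_of_bracket hγ hδ hne hne' hl hN (A.imgComm_of_comR hr hγ c1)
      (A.imgComm_of_comR hr hδ c2) fun q hq => ?_
    have hqm : q ∈ D.commTerms γ δ := by
      rw [hl]
      rcases List.mem_append.1 hq with hq | hq
      exacts [List.mem_append_left _ hq, List.mem_append_right _ (List.mem_cons_of_mem _ hq)]
    have := hall q hqm
    rw [if_neg (hother q hq), Bool.and_eq_true, Bool.or_eq_true] at this
    exact A.PC_of_moves hr (hF.comm_lt γ δ hγ hδ q hqm)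
      (A.imgComm_of_comR hr (hF.comm_lt γ δ hγ hδ q hqm) this.1)
      (this.2.symm.imp (moves_of_chk h) (moves_of_chk h))

theorem tor_pairs : ∀ k s, half D ≤ k → k < s → s < D.nroots → Sys.PairOK A k s := by
  intro k s hk hks hs
  have hc := C.chk
  simp only [torChk, Bool.and_eq_true, List.all_eq_true, List.mem_range, Bool.or_eq_true,
    decide_eq_true_eq] at hc
  rcases hc.2 k (hks.trans hs) s hs with ((e | e) | e) | e
  · omega
  · omega
  · exact Or.inl (moves_of_chk h e)
  · exact Or.inr (Or.inl (moves_of_chk h e))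

end Cfsg.Agent.ChevExt
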