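import Cfsg.Agent.ChevExt.Provide
import Cfsg.Agent.ChevExt.TorusChk

/-!
Lifts of (R1), (R2) over fields with more than four elements, from a certificate of separation.
-/

set_option autoImplicit false

namespace Cfsg.Agent.ChevExt

open Cfsg.Lie Cfsg.Agent.Chev
open scoped MatrixGroups commutatorElement

universe u v w w'

variable {D : ChevalleyDatum} {hF : Facts.{u} D} {F : Type u} [Field F]

theorem liftsExist_of_torus (C : TorCert D) (h : ∃ s : Finset F, 4 < s.card) :
    LiftsExist.{u, v} hF F := fun _ _ A => by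
  let S := torSys A (tor_move C h) (tor_pc A C h)
  exact ⟨S.span, S.toLift (fun a b h1 h2 h3 => Or.inl (tor_pairs A C h a b h1 h2 h3)) C.refl, fun _ => rfl⟩

theorem liftsUnique_of_torus (C : TorCert D) (hE : Extra D) (h : ∃ s : Finset F, 4 < s.card) :
    LiftsUnique.{u, v, w, w'} hF F := fun _ _ A _ _ L j hj _ _ L' j' hj' r t hr => by
  rw [tor_unique A (tor_move C h) (tor_pc A C h) L j hj hE hr,
    tor_unique A (tor_move C h) (tor_pc A C h) L' j' hj' hE hr]

omit [Field F] in
theorem exists_finset_card [Fintype F] {n : ℕ} (h : n < Fintype.card F) :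
    ∃ s : Finset F, n < s.card := ⟨Finset.univ, by rwa [Finset.card_univ]⟩

end Cfsg.Agent.ChevExt
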