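import Cfsg.Agent.ChevExt.Cover
import Cfsg.Agent.ChevExt.TorusLifts
import Cfsg.Agent.ChevExt.Data.TorG2
import Cfsg.Agent.ChevExt.Data.TorB2
import Cfsg.Agent.ChevExt.Data.TorD4
import Cfsg.Agent.ChevExt.Data.TorF4
import Cfsg.Agent.ChevExt.Data.E6
import Cfsg.Agent.ChevExt.Data.E7
import Cfsg.Agent.ChevExt.Data.E8
import Cfsg.Agent.Chev.SimpleAll

/-!
The seven tabulated data over fields with more than four elements.
-/

set_option autoImplicit false

namespace Cfsg.Agent.ChevExt

open Cfsg.Lie Cfsg.Agent.Chev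

universe u v w w'

theorem lifts_seven {F : Type u} [Field F] (h : ∃ s : Finset F, 4 < s.card) {D : ChevalleyDatum}
    (hD : D ∈ [chevG2, chevB2, chevD4, chevF4, chevE6, chevE7, chevE8]) :
    ∃ hF : Facts.{u} D, Extra D ∧ commutator (D.SteinbergCover F) = ⊤ ∧
      LiftsExist.{u, v} hF F ∧ LiftsUnique.{u, w, w', w} hF F := by
  have hx : ∃ x : F, x ≠ 0 ∧ x ≠ 1 := by
    obtain ⟨l, hl⟩ := exists_pow_ne_one h Nat.one_pos (by omega)
    exact ⟨(l : F), Units.ne_zero l, fun e => hl (by rw [pow_one]; exact Units.ext e)⟩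
  simp only [List.mem_cons, List.not_mem_nil, or_false] at hD
  rcases hD with rfl | rfl | rfl | rfl | rfl | rfl | rfl
  · exact ⟨facts_chevG2, extra_chevG2,
      (scLift facts_chevG2).commutator_eq_top extra_chevG2 (fun _ => hx) g2_perfect_chk,
      liftsExist_of_torus torG2 h, liftsUnique_of_torus torG2 extra_chevG2 h⟩
  · exact ⟨facts_chevB2, extra_chevB2,
      (scLift facts_chevB2).commutator_eq_top extra_chevB2 (fun _ => hx) b2_perfect_chk,
      liftsExist_of_torus torB2 h, liftsUnique_of_torus torB2 extra_chevB2 h⟩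
  · exact ⟨facts_chevD4, extra_chevD4,
      (scLift facts_chevD4).commutator_eq_top extra_chevD4 (fun e => Bool.noConfusion e) d4_perfect_chk,
      liftsExist_of_torus torD4 h, liftsUnique_of_torus torD4 extra_chevD4 h⟩
  · exact ⟨facts_chevF4, extra_chevF4,
      (scLift facts_chevF4).commutator_eq_top extra_chevF4 (fun e => Bool.noConfusion e) f4_perfect_chk,
      liftsExist_of_torus torF4 h, liftsUnique_of_torus torF4 extra_chevF4 h⟩
  · exact ⟨facts_chevE6, extra_chevE6,
      (scLift facts_chevE6).commutator_eq_top extra_chevE6 (fun e => Bool.noConfusion e) e6_perfect_chk,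
      liftsExist_of_simply certE6, liftsUnique_of_simply certE6⟩
  · exact ⟨facts_chevE7, extra_chevE7,
      (scLift facts_chevE7).commutator_eq_top extra_chevE7 (fun e => Bool.noConfusion e) e7_perfect_chk,
      liftsExist_of_simply certE7, liftsUnique_of_simply certE7⟩
  · exact ⟨facts_chevE8, extra_chevE8,
      (scLift facts_chevE8).commutator_eq_top extra_chevE8 (fun e => Bool.noConfusion e) e8_perfect_chk,
      liftsExist_of_simply certE8, liftsUnique_of_simply certE8⟩

end Cfsg.Agent.ChevExt
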