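import Cfsg.Agent.ChevExt.PrimeExt
import Cfsg.Agent.ChevExt.Seven

/-!
Projective representations in the natural characteristic lift to the group of (R1), (R2).
-/

set_option autoImplicit false

namespace Cfsg.Agent.ChevExt

open Cfsg.Lie Cfsg.Agent.Chev
open scoped MatrixGroups commutatorElement

universe u v w

theorem hom_unique_of_perfect {Δ : Type u} {E : Type v} {G₁ : Type w} [Group Δ] [Group E] [Group G₁]
    (hp : commutator Δ = ⊤) (π : E →* G₁) (hc : π.ker ≤ Subgroup.center E) {τ₀ τ : Δ →* E}
    (h : π.comp τ = π.comp τ₀) : τ = τ₀ := by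
  have hz : ∀ d, (τ₀ d)⁻¹ * τ d ∈ Subgroup.center E := fun d => hc (by
    rw [MonoidHom.mem_ker, map_mul, map_inv, ← MonoidHom.comp_apply π τ d, h, MonoidHom.comp_apply,
      inv_mul_cancel])
  let χ : Δ →* E :=
    { toFun := fun d => (τ₀ d)⁻¹ * τ d
      map_one' := by simp
      map_mul' := fun a b => by
        rw [map_mul, map_mul, mul_inv_rev,
          show (τ₀ b)⁻¹ * (τ₀ a)⁻¹ * (τ a * τ b) = (τ₀ b)⁻¹ * ((τ₀ a)⁻¹ * τ a) * τ b by group,
          Subgroup.mem_center_iff.1 (hz a) (τ₀ b)⁻¹]
        group }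
  have hle : commutator Δ ≤ χ.ker := by
    rw [commutator_def, Subgroup.commutator_le]
    intro a _ b _
    rw [MonoidHom.mem_ker, map_commutatorElement, commutatorElement_eq_one_iff_commute]
    exact Subgroup.mem_center_iff.1 (hz b) _
  exact MonoidHom.ext fun d => (inv_mul_eq_one.1 (hle (hp ▸ Subgroup.mem_top d))).symm

/-- A group whose central subgroup has finite index has finitely many commutators. -/
theorem finite_commutatorSet {P : Type u} [Group P] {G : Type v} [Group G] [Finite G] (q : P →* G)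
    (hc : q.ker ≤ Subgroup.center P) : Finite (commutatorSet P) := by
  classical
  have : Finite q.range := inferInstance
  let out : q.range → P := fun x => x.2.choose
  have hout : ∀ x : q.range, q (out x) = x := fun x => x.2.choose_spec
  refine Finite.of_surjective (α := q.range × q.range)
    (fun x => ⟨⁅out x.1, out x.2⁆, commutator_mem_commutatorSet _ _⟩) ?_
  rintro ⟨_, a, b, rfl⟩
  refine ⟨(⟨q a, a, rfl⟩, ⟨q b, b, rfl⟩), Subtype.ext ?_⟩
  show ⁅out _, out _⁆ = ⁅a, b⁆
  have e1 : ∀ x y z : P, q x = q y → ⁅x, z⁆ = ⁅y, z⁆ := fun x y z e => by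
    have hm : y⁻¹ * x ∈ Subgroup.center P := hc (by
      rw [MonoidHom.mem_ker, map_mul, map_inv, e, inv_mul_cancel])
    have h1 := Subgroup.mem_center_iff.1 hm z
    calc ⁅x, z⁆ = y * (y⁻¹ * x * z) * x⁻¹ * z⁻¹ := by rw [commutatorElement_def]; group
      _ = y * (z * (y⁻¹ * x)) * x⁻¹ * z⁻¹ := by rw [h1]
      _ = ⁅y, z⁆ := by rw [commutatorElement_def]; group
  have e2 : ∀ x y z : P, q x = q y → ⁅z, x⁆ = ⁅z, y⁆ := fun x y z e => by
    rw [← commutatorElement_inv x z, e1 x y z e, commutatorElement_inv]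
  rw [e1 _ a _ (hout ⟨q a, a, rfl⟩), e2 _ b _ (hout ⟨q b, b, rfl⟩)]

variable {D : ChevalleyDatum} {F : Type u} [Field F]

/-- The finite case. -/
theorem projective_lift_finite [Fintype F] (hF : Facts.{u} D) (hE : Extra D) (hT : TermsRefl D)
    (hp : commutator (D.SteinbergCover F) = ⊤) (θ : D.SteinbergCover F →* ↥(D.group F))
    (hθ : ∀ r < D.nroots, ∀ t, (θ ((scLift hF).X r t) : GL D.Idx F) = xG hF r t)
    {L : Type v} [Field L] (hL : ringChar L = ringChar F) {n : ℕ}
    (φ : ↥(D.group F) →* GL (Fin n) L ⧸ Subgroup.center (GL (Fin n) L)) :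
    ∃ ψ : D.SteinbergCover F →* GL (Fin n) L,
      (QuotientGroup.mk' (Subgroup.center (GL (Fin n) L))).comp ψ = φ.comp θ := by
  classical
  obtain ⟨p, hch⟩ := CharP.exists F
  have hpp : p.Prime := CharP.char_is_prime F p
  have : Fact p.Prime := ⟨hpp⟩
  have : CharP L p := by
    rw [ringChar.eq F p] at hL
    exact ringChar.of_eq hL
  set mk := QuotientGroup.mk' (Subgroup.center (GL (Fin n) L))
  have hθG : θ = (scLift hF (F := F)).θG := scHom_ext (hF := hF) fun r hr t => Subtype.ext (by
    rw [hθ r hr]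
    exact ((scLift hF).θ_X r t).symm)
  have hθs : Function.Surjective θ := hθG ▸ (isStem_θG (scLift hF) hE hp).1
  let P : Subgroup (D.group F × GL (Fin n) L) :=
    (φ.comp (MonoidHom.fst _ _)).eqLocus (mk.comp (MonoidHom.snd _ _))
  let q₀ : P →* D.group F := (MonoidHom.fst _ _).comp P.subtype
  have hq₀s : Function.Surjective q₀ := fun d => by
    obtain ⟨e, he⟩ := QuotientGroup.mk'_surjective (Subgroup.center (GL (Fin n) L)) (φ d)
    exact ⟨⟨(d, e), he.symm⟩, rfl⟩
  have hcen : ∀ x : P, q₀ x = 1 → (x : D.group F × GL (Fin n) L).2 ∈ Subgroup.center (GL (Fin n) L) := by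
    intro x hx
    rw [← QuotientGroup.eq_one_iff]
    have := x.2
    change φ (q₀ x) = mk (x : D.group F × GL (Fin n) L).2 at this
    rw [hx, map_one] at this
    exact this.symm
  have hq₀c : q₀.ker ≤ Subgroup.center P := fun x hx => by
    rw [Subgroup.mem_center_iff]
    intro y
    refine Subtype.ext (Prod.ext ?_ (Subgroup.mem_center_iff.1 (hcen x hx) _))
    show (y : D.group F × GL (Fin n) L).1 * q₀ x = q₀ x * (y : D.group F × GL (Fin n) L).1
    rw [MonoidHom.mem_ker.1 hx, mul_one, one_mul]
  have := finite_commutatorSet q₀ hq₀c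
  let q : commutator P →* D.group F := q₀.comp (commutator P).subtype
  have hperf : commutator ↥(D.group F) = ⊤ := by
    rw [commutator_def, ← Subgroup.map_top_of_surjective θ hθs, ← Subgroup.map_commutator,
      ← commutator_def, hp]
  have hqs : Function.Surjective q := fun d => by
    have hmap : (commutator P).map q₀ = ⊤ := by
      rw [commutator_def, Subgroup.map_commutator, Subgroup.map_top_of_surjective q₀ hq₀s,
        ← commutator_def, hperf]
    obtain ⟨y, hy, e⟩ := (hmap ▸ Subgroup.mem_top d : d ∈ (commutator P).map q₀)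
    exact ⟨⟨y, hy⟩, e⟩
  have hqc : q.ker ≤ Subgroup.center (commutator P) := fun x hx => by
    rw [Subgroup.mem_center_iff]
    exact fun y => Subtype.ext (Subgroup.mem_center_iff.1 (hq₀c hx) (y : P))
  have hcop : ¬ p ∣ Nat.card q.ker := fun hdvd => by
    obtain ⟨z, hz⟩ := exists_prime_orderOf_dvd_card' p hdvd
    set x : P := ((z : commutator P) : P)
    have hx : q₀ x = 1 := z.2
    obtain ⟨c, hc⟩ := Matrix.GeneralLinearGroup.mem_center_iff_val_mem_range_scalar.1 (hcen x hx)
    have hpow : (x : D.group F × GL (Fin n) L).2 ^ p = 1 := by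
      have := congrArg (fun z : q.ker => (((z : commutator P) : P) : D.group F × GL (Fin n) L).2)
        (orderOf_dvd_iff_pow_eq_one.1 hz.dvd : z ^ p = 1)
      simpa using this
    have hone : (x : D.group F × GL (Fin n) L).2 = 1 := by
      rcases isEmpty_or_nonempty (Fin n) with h | ⟨⟨i⟩⟩
      · exact Subsingleton.elim _ _
      · have h1 := congrArg (fun g : GL (Fin n) L => (g : Matrix (Fin n) (Fin n) L) i i) hpow
        simp only [Units.val_pow_eq_pow_val, ← hc, ← map_pow, Units.val_one] at h1
        rw [Matrix.scalar_apply, Matrix.diagonal_apply_eq, Matrix.one_apply_eq] at h1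
        have h2 : c = 1 := sub_eq_zero.1 (eq_zero_of_pow_eq_zero (n := p) (by
          rw [sub_pow_char, one_pow, h1, sub_self]))
        exact Units.ext (by rw [← hc, h2, map_one, Units.val_one])
    have hz1 : z = 1 := Subtype.ext (Subtype.ext (Subtype.ext (Prod.ext hx hone)))
    rw [hz1, orderOf_one] at hz
    exact hpp.one_lt.ne hz
  obtain ⟨ψ, hψ⟩ := exists_hom_of_coprime hF hT q hqs hqc hcop
  have hqψ : q.comp ψ = θ := scHom_ext (hF := hF) fun r hr t => Subtype.ext (by
    rw [MonoidHom.comp_apply, hψ r hr, hθ r hr])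
  refine ⟨(MonoidHom.snd _ _).comp (P.subtype.comp ((commutator P).subtype.comp ψ)),
    MonoidHom.ext fun d => ?_⟩
  have := ((ψ d : commutator P) : P).2
  change φ (q (ψ d)) = mk _ at this
  refine this.symm.trans ?_
  rw [← hqψ]
  rfl

/-- The four types with small fields. -/
theorem small_data {D : ChevalleyDatum} (hD : D ∈ [chevG2, chevB2, chevD4, chevF4])
    (hK : D ∈ [chevB2, chevG2] → ∃ x : F, x ≠ 0 ∧ x ≠ 1) :
    ∃ _hF : Facts.{u} D, Extra D ∧ TermsRefl D ∧ commutator (D.SteinbergCover F) = ⊤ := by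
  simp only [List.mem_cons, List.not_mem_nil, or_false] at hD
  rcases hD with rfl | rfl | rfl | rfl
  · exact ⟨facts_chevG2, extra_chevG2, torG2.refl,
      (scLift facts_chevG2).commutator_eq_top extra_chevG2 (fun _ => hK (by simp)) g2_perfect_chk⟩
  · exact ⟨facts_chevB2, extra_chevB2, torB2.refl,
      (scLift facts_chevB2).commutator_eq_top extra_chevB2 (fun _ => hK (by simp)) b2_perfect_chk⟩
  · exact ⟨facts_chevD4, extra_chevD4, torD4.refl,
      (scLift facts_chevD4).commutator_eq_top extra_chevD4 (fun e => Bool.noConfusion e) d4_perfect_chk⟩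
  · exact ⟨facts_chevF4, extra_chevF4, torF4.refl,
      (scLift facts_chevF4).commutator_eq_top extra_chevF4 (fun e => Bool.noConfusion e) f4_perfect_chk⟩

/-- Projective representations in the natural characteristic lift. -/
theorem projective_lift {D : ChevalleyDatum}
    (hD : D ∈ [chevG2, chevB2, chevD4, chevF4, chevE6, chevE7, chevE8])
    (hK : D ∈ [chevB2, chevG2] → ∃ x : F, x ≠ 0 ∧ x ≠ 1) (θ : D.SteinbergCover F →* ↥(D.group F))
    (hθ : ∀ (r : ℕ) (t : F), r < D.nroots →
      ((θ (D.scGen F r t) : GL D.Idx F) : Matrix D.Idx D.Idx F) = D.x F r t)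
    {L : Type v} [Field L] (hL : ringChar L = ringChar F) {n : ℕ}
    (φ : ↥(D.group F) →* GL (Fin n) L ⧸ Subgroup.center (GL (Fin n) L)) :
    ∃! ψ : D.SteinbergCover F →* GL (Fin n) L,
      (QuotientGroup.mk' (Subgroup.center (GL (Fin n) L))).comp ψ = φ.comp θ := by
  classical
  set mk := QuotientGroup.mk' (Subgroup.center (GL (Fin n) L))
  have hker : mk.ker ≤ Subgroup.center (GL (Fin n) L) := (QuotientGroup.ker_mk' _).le
  have hsurj : Function.Surjective mk := QuotientGroup.mk'_surjective _
  by_cases h5 : ∃ s : Finset F, 4 < s.card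
  · obtain ⟨hF, hE, hp, hex, huniq⟩ := lifts_seven h5 hD
    exact cover_universal hex huniq hE hp mk hsurj hker _
  have hfin : Finite F := by
    by_contra hinf
    rw [not_finite_iff_infinite] at hinf
    obtain ⟨s, hs⟩ := Infinite.exists_subset_card_eq F 5
    exact h5 ⟨s, by omega⟩
  have : Fintype F := Fintype.ofFinite F
  simp only [List.mem_cons, List.not_mem_nil, or_false] at hD
  have main : D ∈ [chevG2, chevB2, chevD4, chevF4] → ∃! ψ : D.SteinbergCover F →* GL (Fin n) L,
      mk.comp ψ = φ.comp θ := fun h4 => by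
    obtain ⟨hF, hE, hT, hp⟩ := small_data h4 hK
    obtain ⟨ψ, hψ⟩ := projective_lift_finite hF hE hT hp θ (fun r hr t => Units.ext (by
      rw [xG_val]; exact hθ r t hr)) hL φ
    exact ⟨ψ, hψ, fun τ hτ => hom_unique_of_perfect hp mk hker (hτ.trans hψ.symm)⟩
  rcases hD with rfl | rfl | rfl | rfl | rfl | rfl | rfl
  · exact main (by simp)
  · exact main (by simp)
  · exact main (by simp)
  · exact main (by simp)
  · exact cover_universal (hF := facts_chevE6) (liftsExist_of_simply certE6)
      (liftsUnique_of_simply certE6) extra_chevE6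
      ((scLift facts_chevE6).commutator_eq_top extra_chevE6 (fun e => Bool.noConfusion e)
        e6_perfect_chk) mk hsurj hker _
  · exact cover_universal (hF := facts_chevE7) (liftsExist_of_simply certE7)
      (liftsUnique_of_simply certE7) extra_chevE7
      ((scLift facts_chevE7).commutator_eq_top extra_chevE7 (fun e => Bool.noConfusion e)
        e7_perfect_chk) mk hsurj hker _
  · exact cover_universal (hF := facts_chevE8) (liftsExist_of_simply certE8)
      (liftsUnique_of_simply certE8) extra_chevE8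
      ((scLift facts_chevE8).commutator_eq_top extra_chevE8 (fun e => Bool.noConfusion e)
        e8_perfect_chk) mk hsurj hker _

end Cfsg.Agent.ChevExt
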