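import Cfsg.Agent.ChevExt.Universal

/-!
Existence and uniqueness of lifts of (R1), (R2), as properties of a datum and a field, and what
follows from them for stem extensions.
-/

set_option autoImplicit false

namespace Cfsg.Agent.ChevExt

open Cfsg.Lie Cfsg.Agent.Chev
open scoped MatrixGroups commutatorElement

universe u v w w'

/-- Every central extension carries elements with the relations (R1), (R2). -/
def LiftsExist {D : ChevalleyDatum} (hF : Facts.{u} D) (F : Type u) [Field F] : Prop :=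
  ∀ (E : Type v) [Group E] (A : CExt hF F E),
    ∃ (S : Subgroup E) (L : Lift hF F S), ∀ g : S, L.θ g = A.θ g

/-- Such elements are unique. -/
def LiftsUnique {D : ChevalleyDatum} (hF : Facts.{u} D) (F : Type u) [Field F] : Prop :=
  ∀ (E : Type v) [Group E] (A : CExt hF F E)
    (H : Type w) [Group H] (L : Lift hF F H) (j : H →* E), (∀ g, A.θ (j g) = L.θ g) →
    ∀ (H' : Type w') [Group H'] (L' : Lift hF F H') (j' : H' →* E), (∀ g, A.θ (j' g) = L'.θ g) →
    ∀ r t, r < D.nroots → j (L.X r t) = j' (L'.X r t)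

variable {D : ChevalleyDatum} {hF : Facts.{u} D} {F : Type u} [Field F]

theorem liftsExist_of_simply (C : SimplyCert D) : LiftsExist.{u, v} hF F :=
  fun _ _ A => ⟨A.canSub C, A.toLift C, fun _ => rfl⟩

theorem liftsUnique_of_simply (C : SimplyCert D) : LiftsUnique.{u, v, w, w'} hF F :=
  fun _ _ A _ _ L j hj _ _ L' j' hj' r t hr => by
    rw [A.eq_canX C L j hj hr, A.eq_canX C L' j' hj' hr]

theorem commutator_le_of_lift {E : Type v} [Group E] (A : CExt hF F E)
    (h : A.θ.range ≤ D.group F) {S : Subgroup E} (L : Lift hF F S) (hL : ∀ g : S, L.θ g = A.θ g) :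
    commutator E ≤ S := by
  have hcov : ∀ g : E, ∃ x ∈ S, A.θ x = A.θ g := fun g => by
    have hg : A.θ g ∈ L.θ.range := by rw [L.range_θ]; exact h ⟨g, rfl⟩
    obtain ⟨x, hx⟩ := hg
    exact ⟨x, x.2, by rw [← hL, hx]⟩
  rw [commutator_def, Subgroup.commutator_le]
  intro a _ b _
  obtain ⟨x, hx, ex⟩ := hcov a
  obtain ⟨y, hy, ey⟩ := hcov b
  rw [A.br_indep ex.symm ey.symm, commutatorElement_def]
  exact Subgroup.mul_mem _ (Subgroup.mul_mem _ (Subgroup.mul_mem _ hx hy) (Subgroup.inv_mem _ hx))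
    (Subgroup.inv_mem _ hy)

theorem exists_stem_lift (hex : LiftsExist.{u, v} hF F) {Γ : Type v} [Group Γ]
    (σ : Γ →* ↥(D.group F)) (hσ : Cfsg.IsStemExtension σ) :
    ∃ (S : Subgroup Γ) (L : Lift hF F S), σ.ker ≤ S ∧ ∀ g : S, L.θ g = 1 ↔ σ g = 1 := by
  obtain ⟨S, L, hL⟩ := hex Γ (ofHom hF σ hσ.1 hσ.2.1)
  refine ⟨S, L, hσ.2.2.trans (commutator_le_of_lift _ ?_ L hL), fun g => ?_⟩
  · rintro _ ⟨g, rfl⟩
    exact (σ g).2
  · rw [hL]
    show ((σ g : ↥(D.group F)) : GL D.Idx F) = 1 ↔ _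
    rw [OneMemClass.coe_eq_one]

/-- Trivial multiplier of the adjoint group for a faithful torus. -/
theorem multiplier_one [Finite F] (hex : LiftsExist.{u, u} hF F) (hE : Extra D)
    (hinj : Function.Injective (torusHom : (Fin D.rank → Fˣ) →* GL D.Idx F)) :
    Cfsg.HasCyclicSchurMultiplier ↥(D.group F) 1 := by
  have : Fintype F := Fintype.ofFinite F
  refine Cfsg.Agent.ProjExt.Stem.hasCyclicSchurMultiplier_one fun Γ _ _ σ hσ => ?_
  obtain ⟨S, L, hS, hL⟩ := exists_stem_lift hex σ hσ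
  have hk : L.θ.ker = ⊥ := L.ker_eq_bot hE (hMul_of_finite L hE) hinj
  rw [eq_bot_iff]
  intro g hg
  have h1 : (⟨g, hS hg⟩ : S) ∈ L.θ.ker := (hL _).2 hg
  rw [hk, Subgroup.mem_bot] at h1
  exact Subgroup.mem_bot.2 (congrArg Subtype.val h1)

/-- Trivial multiplier of the universal group. -/
theorem multiplier_st [Finite F] (hex : LiftsExist.{u, u} hF F)
    (huniq : LiftsUnique.{u, u, u, u} hF F) (hE : Extra D)
    (hp : commutator (D.SteinbergGroup F) = ⊤)
    (hinj : Function.Injective (hTor (stLift hF (F := F)) hE (stLift_hMul hF))) :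
    Cfsg.HasCyclicSchurMultiplier (D.SteinbergGroup F) 1 := by
  have := finite_steinberg hF hE (F := F)
  refine Cfsg.Agent.ProjExt.Stem.hasCyclicSchurMultiplier_one fun Γ _ _ σ hσ => ?_
  set Ls := stLift hF (F := F)
  have hst := isStem_θG Ls hE hp
  have hperf : commutator Γ = ⊤ := by
    rw [eq_top_iff]
    have hmap : (commutator Γ).map σ = ⊤ := by
      rw [commutator_def, Subgroup.map_commutator, Subgroup.map_top_of_surjective σ hσ.1,
        ← commutator_def, hp]
    intro x _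
    obtain ⟨y, hy, hxy⟩ := (hmap ▸ Subgroup.mem_top (σ x) : σ x ∈ (commutator Γ).map σ)
    have hz : y⁻¹ * x ∈ σ.ker := by rw [MonoidHom.mem_ker, map_mul, map_inv, hxy, inv_mul_cancel]
    simpa using Subgroup.mul_mem _ hy (hσ.2.2 hz)
  set τ := Ls.θG.comp σ with hτ
  have hτc : τ.ker ≤ Subgroup.center Γ :=
    ker_comp_central σ hσ.2.1 hperf _ fun g hg => hst.2.1 hg
  let A := ofHom hF τ (hst.1.comp hσ.1) hτc
  let B := ofHom hF Ls.θG hst.1 hst.2.1
  obtain ⟨S, L, hL⟩ := hex Γ A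
  have hS : S = ⊤ := top_le_iff.1 (hperf ▸ commutator_le_of_lift A (by
    rintro _ ⟨g, rfl⟩; exact (τ g).2) L hL)
  have hX : ∀ r < D.nroots, ∀ t, σ (L.X r t : Γ) = Ls.X r t := fun r hr t =>
    huniq _ B S L (σ.comp S.subtype) (fun g => (hL g).symm) _ Ls (MonoidHom.id _) (fun _ => rfl) r t hr
  have hm := hMul_of_finite L hE
  have hcomp : ∀ c, σ (hTor L hE hm c : Γ) = hTor Ls hE (stLift_hMul hF) c := fun c => by
    suffices h : (σ.comp S.subtype).comp (hTor L hE hm) = hTor Ls hE (stLift_hMul hF) from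
      congrArg (fun f => f c) h
    refine hom_ext_single fun i a => ?_
    have hr := hF.simple_lt i i.2
    rw [MonoidHom.comp_apply, hTor_single, hTor_single]
    simp only [Lift.h, Lift.n, map_mul, MonoidHom.comp_apply, Subgroup.coe_subtype,
      hX _ hr, hX _ (neg_lt hF hr)]
  rw [eq_bot_iff]
  intro g hg
  obtain ⟨c, -, e⟩ := exists_of_mem_ker L hE hm (g := ⟨g, hS ▸ Subgroup.mem_top g⟩) (by
    rw [hL]
    show Ls.θ (σ g) = 1
    rw [MonoidHom.mem_ker.1 hg, map_one])
  have e' := congrArg (fun x : S => σ x) e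
  simp only [hcomp, MonoidHom.mem_ker.1 hg] at e'
  rw [← map_one (hTor Ls hE (stLift_hMul hF))] at e'
  rw [hinj e', map_one] at e
  exact Subgroup.mem_bot.2 (congrArg Subtype.val e).symm

end Cfsg.Agent.ChevExt
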