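import Cfsg.Agent.ChevExt.TorusChk
import Cfsg.Agent.ChevExt.Provide
import Cfsg.Agent.Chev.Sound

/-!
Separation of the roots over fields with three or four elements.
-/

set_option autoImplicit false

namespace Cfsg.Agent.ChevExt

open Cfsg.Lie Cfsg.Agent.Chev
open scoped MatrixGroups commutatorElement

universe u v

/-- Some exponent vector kills `b` and has exponent of absolute value in `[1, k]` at `a`. -/
def sepK (D : ChevalleyDatum) (k : ℕ) (cands : List (List ℤ)) (b a : ℕ) : Bool :=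
  cands.any fun m => dot D m b == 0 && dot D m a != 0 && decide ((dot D m a).natAbs ≤ k)

/-- The root elements of `r` and `s` commute, in characteristic two if `two`. -/
def comC (D : ChevalleyDatum) (two : Bool) (r s : ℕ) : Bool :=
  comR D r s || (two && s != D.neg r && s != r &&
    (D.commTerms r s).all fun q => q.2.1 % 2 == 0)

/-- The image of a root and its sign under a word in the fundamental reflections. -/
noncomputable def wSign (D : ChevalleyDatum) (T : Cert) : List ℕ → ℕ → ℕ × ℤ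
  | [], r => (r, 1)
  | i :: l, r => (D.reflectRoot i (wSign D T l r).1, T.cEta i (wSign D T l r).1 * (wSign D T l r).2)

/-- A word exchanging two commuting roots without change of sign product. -/
noncomputable def swapChk (D : ChevalleyDatum) (T : Cert) (r s : ℕ) (l : List ℕ) : Bool :=
  (l.all fun i => decide (i < D.rank)) && ((D.commTerms r s).isEmpty && (D.commTerms s r).isEmpty &&
    comR D r s) && (wSign D T l r).1 == s &&
    (wSign D T l s).1 == r && ((wSign D T l r).2 * (wSign D T l s).2) == 1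

/-- The root `r` is a factor of the commutator of two roots commuting with it. -/
def brackK (D : ChevalleyDatum) (k : ℕ) (two : Bool) (cands : List (List ℤ)) (r : ℕ) (p : ℕ × ℕ) :
    Bool :=
  decide (p.1 < D.nroots) && decide (p.2 < D.nroots) && p.2 != p.1 && p.2 != D.neg p.1 &&
  comC D two r p.1 && comC D two r p.2 &&
  ((D.commTerms p.1 p.2).filter fun q => q.1 == r).length == 1 &&
  (D.commTerms p.1 p.2).all fun q =>
    if q.1 = r then q.2.1.natAbs == 1 && q.2.2.2 == 1
    else comC D two r q.1 && (sepK D k cands r q.1 || sepK D k cands q.1 r)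

/-- Every root has a torus element moving it. -/
def moveK (D : ChevalleyDatum) (k : ℕ) (cands : List (List ℤ)) : Bool :=
  (List.range D.nroots).all fun r =>
    cands.any fun m => dot D m r != 0 && decide ((dot D m r).natAbs ≤ k)

/-- Every pair of positive roots is separated, or commutes and is exchanged by a word. -/
noncomputable def pairsK (D : ChevalleyDatum) (T : Cert) (k : ℕ) (cands : List (List ℤ))
    (words : List ((ℕ × ℕ) × List ℕ)) : Bool :=
  (List.range D.nroots).all fun a => (List.range D.nroots).all fun b =>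
    decide (a < half D) || decide (b ≤ a) || sepK D k cands b a || sepK D k cands a b ||
      words.any fun w => w.1 == (a, b) && swapChk D T a b w.2

variable {D : ChevalleyDatum} {F : Type u} [Field F]

/-- Units with nontrivial powers up to `k`. -/
def Room (F : Type u) [Field F] (k : ℕ) : Prop := ∀ j, 0 < j → j ≤ k → ∃ l : Fˣ, l ^ j ≠ 1

theorem exists_chi_ne_room {k : ℕ} (h : Room F k) {m : List ℤ} {r : ℕ}
    (h0 : dot D m r ≠ 0) (h3 : (dot D m r).natAbs ≤ k) :
    ∃ l : Fˣ, chiU (D := D) (powTor D m l) r ≠ 1 := by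
  obtain ⟨l, hl⟩ := h _ (Int.natAbs_pos.2 h0) h3
  refine ⟨l, ?_⟩
  rw [chiU_powTor]
  rcases Int.natAbs_eq (dot D m r) with e | e <;> rw [e] <;> simpa using hl

theorem moves_of_sepK {k : ℕ} (h : Room F k) {cands : List (List ℤ)} {b a : ℕ}
    (hc : sepK D k cands b a = true) : Moves D F b a := by
  simp only [sepK, List.any_eq_true, Bool.and_eq_true, beq_iff_eq, bne_iff_ne,
    decide_eq_true_eq] at hc
  obtain ⟨m, -, ⟨h0, ha⟩, h3⟩ := hc
  obtain ⟨l, hl⟩ := exists_chi_ne_room h ha h3
  exact ⟨powTor D m l, by rw [chiU_powTor, h0, zpow_zero], hl⟩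

theorem move_of_moveK {k : ℕ} (h : Room F k) {cands : List (List ℤ)}
    (hc : moveK D k cands = true) : ∀ r < D.nroots, ∃ c : Fin D.rank → Fˣ, chiU (D := D) c r ≠ 1 := by
  intro r hr
  simp only [moveK, List.all_eq_true, List.mem_range, List.any_eq_true, Bool.and_eq_true,
    bne_iff_ne, decide_eq_true_eq] at hc
  obtain ⟨m, -, h0, h3⟩ := hc r hr
  obtain ⟨l, hl⟩ := exists_chi_ne_room h h0 h3
  exact ⟨_, hl⟩

variable {hF : Facts.{u} D}

/-- The sign of the certificate is the sign of the facts, in every field. -/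
theorem etaN_eq_cEta {T : Cert} (hT : Checks D T) {i s : ℕ} (hi : i < D.rank) (hs : s < D.nroots) :
    ((etaN hF i s : ℤ) : F) = ((T.cEta i s : ℤ) : F) := by
  have h1 := nS_conj_x hF hi hs (1 : F)
  have h3 := congrArg Units.val h1
  have hS : ((nS hF i : GL D.Idx F) : Matrix D.Idx D.Idx F) = shapeOne D T F i := by
    rw [nS, nG_val, nMat_simple hT hi one_ne_zero, inv_one]
    rfl
  rw [Units.val_mul, Units.val_mul, xG_val, hS, conj_x hT hi hs] at h3
  have h4 : xG hF (D.reflectRoot i s) (((T.cEta i s : ℤ) : F) * 1) * nS hF i =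
      xG hF (D.reflectRoot i s) (((etaN hF i s : ℤ) : F) * 1) * nS hF i := by
    apply Units.ext
    rw [Units.val_mul, Units.val_mul, xG_val, hS]
    exact h3
  have h5 := xG_inj hF (hF.refl_lt i hi s hs) (mul_right_cancel h4)
  rw [mul_one, mul_one] at h5
  exact h5.symm

variable {E : Type v} [Group E] (A : CExt hF F E)

theorem imgComm_of_comC {two : Bool} (h2 : two = true → (2 : F) = 0) {r s : ℕ} (hr : r < D.nroots)
    (hs : s < D.nroots) (h : comC D two r s = true) : A.ImgComm r s := by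
  simp only [comC, Bool.or_eq_true, Bool.and_eq_true, bne_iff_ne, List.all_eq_true, beq_iff_eq] at h
  rcases h with h | ⟨⟨⟨ht, h1⟩, hne⟩, hall⟩
  · exact A.imgComm_of_comR hr hs h
  intro a b
  have := xG_comm hF hr hs hne h1 a b
  rw [wordG, List.prod_eq_one, mul_one] at this
  · exact this.symm
  intro x hx
  obtain ⟨p, hp, rfl⟩ := List.mem_map.1 hx
  obtain ⟨q, hq, rfl⟩ := List.mem_map.1 hp
  obtain ⟨m, hm⟩ := Int.dvd_of_emod_eq_zero (hall q hq)
  have h0 : ((q.2.1 : ℤ) : F) = 0 := by rw [hm, Int.cast_mul, Int.cast_ofNat, h2 ht, zero_mul]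
  show xG hF q.1 (((q.2.1 : ℤ) : F) * (-a) ^ q.2.2.1 * b ^ q.2.2.2) = 1
  rw [h0, zero_mul, zero_mul, xG_zero]

theorem pc_of_brackK {k : ℕ} (h : Room F k) {two : Bool} (h2 : two = true → (2 : F) = 0)
    {cands : List (List ℤ)} {r : ℕ} {p : ℕ × ℕ} (hr : r < D.nroots)
    (hb : brackK D k two cands r p = true) : A.PC r r := by
  obtain ⟨γ, δ⟩ := p
  simp only [brackK, Bool.and_eq_true, decide_eq_true_eq, bne_iff_ne, beq_iff_eq,
    List.all_eq_true] at hb
  obtain ⟨⟨⟨⟨⟨⟨⟨hγ, hδ⟩, hne⟩, hne'⟩, c1⟩, c2⟩, hlen⟩, hall⟩ := hb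
  obtain ⟨c, hcmem⟩ := List.exists_mem_of_length_pos (hlen.symm ▸ Nat.one_pos)
  rw [List.mem_filter, beq_iff_eq] at hcmem
  obtain ⟨l₁, l₂, hl⟩ := List.append_of_mem hcmem.1
  have hc0 := hall c hcmem.1
  rw [if_pos hcmem.2, Bool.and_eq_true, beq_iff_eq, beq_iff_eq] at hc0
  obtain ⟨c₁, N, i, j⟩ := c
  obtain ⟨hN, rfl⟩ := hc0
  obtain rfl : c₁ = r := hcmem.2
  have hother : ∀ q ∈ l₁ ++ l₂, q.1 ≠ c₁ := by
    intro q hq e
    rw [hl, List.filter_append, List.filter_cons_of_pos (by simp)] at hlen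
    simp only [List.length_append, List.length_cons] at hlen
    have hmem : ∀ l : List (ℕ × ℤ × ℕ × ℕ), q ∈ l → 0 < (l.filter fun p => p.1 == c₁).length :=
      fun l h => List.length_pos_of_mem (List.mem_filter.2 ⟨h, beq_iff_eq.2 e⟩)
    rcases List.mem_append.1 hq with hq | hq <;> (have := hmem _ hq; omega)
  refine A.PC_self_of_bracket hγ hδ hne hne' hl hN (imgComm_of_comC A h2 hr hγ c1)
    (imgComm_of_comC A h2 hr hδ c2) fun q hq => ?_
  have hqm : q ∈ D.commTerms γ δ := by
    rw [hl]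
    rcases List.mem_append.1 hq with hq | hq
    exacts [List.mem_append_left _ hq, List.mem_append_right _ (List.mem_cons_of_mem _ hq)]
  have := hall q hqm
  rw [if_neg (hother q hq), Bool.and_eq_true, Bool.or_eq_true] at this
  exact A.PC_of_moves hr (hF.comm_lt γ δ hγ hδ q hqm)
    (imgComm_of_comC A h2 hr (hF.comm_lt γ δ hγ hδ q hqm) this.1)
    (this.2.symm.imp (moves_of_sepK h) (moves_of_sepK h))

/-- Over the prime field of three elements one root group lifts to an abelian group. -/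
theorem pc_self_three (h3 : ∀ a : F, a = 0 ∨ a = 1 ∨ a = -1) {r : ℕ} : A.PC r r := by
  have h : A.ImgComm r r := fun a b => by show _ = _; rw [xG_mul, xG_mul, add_comm]
  have hx : ∀ a : F, A.θ (A.lift r a) = xG hF r a := fun a => A.θ_lift r a
  intro a b
  obtain ⟨na, hna⟩ : ∃ n : ℤ, (n : F) = a := by
    rcases h3 a with e | e | e
    exacts [⟨0, by simp [e]⟩, ⟨1, by simp [e]⟩, ⟨-1, by simp [e]⟩]
  obtain ⟨nb, hnb⟩ : ∃ n : ℤ, (n : F) = b := by
    rcases h3 b with e | e | e
    exacts [⟨0, by simp [e]⟩, ⟨1, by simp [e]⟩, ⟨-1, by simp [e]⟩]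
  have hp : ∀ n : ℤ, xG hF r (n : F) = xG hF r 1 ^ n := fun n => by
    induction n using Int.induction_on with
    | zero => rw [Int.cast_zero, xG_zero, zpow_zero]
    | succ n ih => rw [zpow_add_one, ← ih, xG_mul]; push_cast; rfl
    | pred n ih => rw [zpow_sub_one, ← ih, xG_inv, xG_mul]; push_cast; rw [sub_eq_add_neg]
  have e : ⁅A.lift r a, A.lift r b⁆ = ⁅A.lift r 1 ^ na, A.lift r 1 ^ nb⁆ :=
    A.br_indep (by rw [hx, map_zpow, hx, ← hna, hp]) (by rw [hx, map_zpow, hx, ← hnb, hp])
  rw [← commutatorElement_eq_one_iff_commute, e, commutatorElement_eq_one_iff_commute]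
  exact ((Commute.refl (A.lift r 1)).zpow_left na).zpow_right nb

theorem exists_word_lift {T : Cert} (hT : Checks D T) :
    ∀ (l : List ℕ), (∀ i ∈ l, i < D.rank) → ∃ g : E, ∀ r < D.nroots,
      (wSign D T l r).1 < D.nroots ∧ ∀ a, A.θ g * xG hF r a * (A.θ g)⁻¹ =
        xG hF (wSign D T l r).1 (((wSign D T l r).2 : ℤ) * a : F)
  | [], _ => ⟨1, fun r hr => ⟨hr, fun a => by simp [wSign]⟩⟩
  | i :: l, hl => by
    obtain ⟨g, hg⟩ := exists_word_lift hT l fun j hj => hl j (List.mem_cons_of_mem _ hj)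
    obtain ⟨w, hw⟩ := A.exists_nS (i := i)
    have hi := hl i List.mem_cons_self
    refine ⟨w * g, fun r hr => ⟨hF.refl_lt i hi _ (hg r hr).1, fun a => ?_⟩⟩
    rw [map_mul, hw, show nS hF i * A.θ g * xG hF r a * (nS hF i * A.θ g)⁻¹ =
      nS hF i * (A.θ g * xG hF r a * (A.θ g)⁻¹) * (nS hF i)⁻¹ by group, (hg r hr).2,
      A.conj_xG hi (hg r hr).1, CExt.eta, etaN_eq_cEta hT hi (hg r hr).1]
    simp only [wSign, Int.cast_mul]
    congr 1
    ring

/-- Commuting roots exchanged by a word without change of sign product have commuting lifts when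
every element is `0`, `1` or `-1` and `3 = 0`. -/
theorem pc_of_swap {T : Cert} (hT : Checks D T) (h3 : ∀ a : F, a = 0 ∨ a = 1 ∨ a = -1)
    (hthree : (3 : F) = 0) {r s : ℕ} (hr : r < D.nroots) (hs : s < D.nroots) {l : List ℕ}
    (hc : swapChk D T r s l = true) : A.PC r s := by
  simp only [swapChk, Bool.and_eq_true, List.all_eq_true, decide_eq_true_eq, beq_iff_eq] at hc
  obtain ⟨⟨⟨⟨hl, ⟨-, hcom⟩⟩, hwr⟩, hws⟩, hsgn⟩ := hc
  have him := A.imgComm_of_comR hr hs hcom
  have him' : A.ImgComm s r := fun a b => (him b a).symm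
  have hz : ∀ a b, A.Br r s a b ∈ Subgroup.center E := fun a b => A.central (by
    rw [MonoidHom.mem_ker, A.θ_Br, commutatorElement_eq_one_iff_commute]; exact him a b)
  obtain ⟨g, hg⟩ := exists_word_lift A hT l hl
  set σr : F := (((wSign D T l r).2 : ℤ) : F) with hσr
  set σs : F := (((wSign D T l s).2 : ℤ) : F) with hσs
  have e1 : A.Br r s 1 1 = A.Br s r σr σs := by
    refine Eq.trans ?_ (A.br_eq_Br (x := g * A.lift r 1 * g⁻¹) (y := g * A.lift s 1 * g⁻¹) ?_ ?_)
    · calc A.Br r s 1 1 = g * A.Br r s 1 1 * g⁻¹ := by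
            rw [Subgroup.mem_center_iff.1 (hz 1 1) g, mul_inv_cancel_right]
        _ = ⁅g * A.lift r 1 * g⁻¹, g * A.lift s 1 * g⁻¹⁆ := by
            simp only [CExt.Br, commutatorElement_def]; group
    · rw [map_mul, map_mul, map_inv, A.θ_lift, (hg r hr).2, hwr, mul_one]
    · rw [map_mul, map_mul, map_inv, A.θ_lift, (hg s hs).2, hws, mul_one]
  have negl : ∀ a b, A.Br r s (-a) b = (A.Br r s a b)⁻¹ := fun a b => by
    have h0 := A.Br_add_left him 0 0 b
    rw [add_zero] at h0
    have h1 := A.Br_add_left him a (-a) b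
    rw [add_neg_cancel, left_eq_mul.1 h0] at h1
    exact eq_inv_of_mul_eq_one_right h1.symm
  have negr : ∀ a b, A.Br r s a (-b) = (A.Br r s a b)⁻¹ := fun a b => by
    have h0 := A.Br_add_left him' 0 0 a
    rw [add_zero] at h0
    have h1 := A.Br_add_left him' b (-b) a
    rw [add_neg_cancel, left_eq_mul.1 h0] at h1
    rw [A.Br_swap s r, A.Br_swap s r b a, ← eq_inv_of_mul_eq_one_right h1.symm]
  have hss : σr * σs = 1 := by
    rw [← Int.cast_mul, hsgn, Int.cast_one]
  have e2 : A.Br r s 1 1 = (A.Br r s 1 1)⁻¹ := by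
    conv_lhs => rw [e1, A.Br_swap r s]
    have hsq : σs * σs = 1 ∧ σr = σs := by
      rcases h3 σs with e | e | e <;> rw [e] at hss ⊢
      · simp at hss
      · exact ⟨one_mul 1, by simpa using hss⟩
      · exact ⟨by simp, by linear_combination -hss⟩
    rw [hsq.2]
    rcases h3 σs with e | e | e <;> rw [e] at hsq ⊢
    · simp at hsq
    · rw [negl, negr, inv_inv]
  have e3 : A.Br r s 1 1 = 1 := by
    have h0 := A.Br_add_left him 0 0 1
    rw [add_zero] at h0
    have h2 : A.Br r s ((1 : F) + 1 + 1) 1 = A.Br r s 1 1 := by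
      rw [A.Br_add_left him, A.Br_add_left him]
      nth_rw 2 [e2]
      rw [mul_inv_cancel, one_mul]
    rw [show (1 : F) + 1 + 1 = 0 by linear_combination hthree, left_eq_mul.1 h0] at h2
    exact h2.symm
  have h1' : ∀ a, A.Br r s a 1 = 1 := fun a => by
    rcases h3 a with rfl | rfl | rfl
    · have h0 := A.Br_add_left him 0 0 1
      rw [add_zero] at h0
      exact left_eq_mul.1 h0
    · exact e3
    · rw [negl, e3, inv_one]
  intro a b
  rw [← commutatorElement_eq_one_iff_commute]
  show A.Br r s a b = 1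
  rcases h3 b with rfl | rfl | rfl
  · have h0 := A.Br_add_left him' 0 0 a
    rw [add_zero] at h0
    rw [A.Br_swap s r, left_eq_mul.1 h0, inv_one]
  · exact h1' a
  · rw [negr, h1' a, inv_one]

end Cfsg.Agent.ChevExt
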