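import Cfsg.Agent.ChevExt.SmallField
import Cfsg.Agent.ChevExt.TorusLifts
import Mathlib.FieldTheory.Finite.Basic

/-!
Lifts of (R1), (R2) over fields with three or four elements.
-/

set_option autoImplicit false

namespace Cfsg.Agent.ChevExt

open Cfsg.Lie Cfsg.Agent.Chev

universe u v w w'

variable {D : ChevalleyDatum} {F : Type u} [Field F]

theorem room_three [Fintype F] (h : Fintype.card F = 3) :
    Room F 1 ∧ (∀ a : F, a = 0 ∨ a = 1 ∨ a = -1) ∧ (3 : F) = 0 := by
  have h3 : (3 : F) = 0 := by exact_mod_cast h ▸ Nat.cast_card_eq_zero F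
  have h2 : (-1 : F) ≠ 1 := fun e => one_ne_zero (show (1 : F) = 0 by linear_combination h3 + e)
  refine ⟨fun j hj hj1 => ⟨-1, ?_⟩, fun a => ?_, h3⟩
  · obtain rfl : j = 1 := by omega
    rw [pow_one]
    exact fun e => h2 (by simpa using congrArg Units.val e)
  · by_cases ha : a = 0
    · exact Or.inl ha
    · have h1 := FiniteField.pow_card_sub_one_eq_one a ha
      rw [h] at h1
      exact Or.inr (mul_self_eq_one_iff.1 (by rw [← sq]; exact h1))

theorem room_four [Fintype F] (h : Fintype.card F = 4) : Room F 2 ∧ (2 : F) = 0 := by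
  classical
  refine ⟨fun j hj hj2 => ?_, ?_⟩
  · obtain ⟨g, hg⟩ := IsCyclic.exists_ofOrder_eq_natCard (α := Fˣ)
    rw [Nat.card_eq_fintype_card, Fintype.card_units, h] at hg
    refine ⟨g, fun e => ?_⟩
    have := orderOf_dvd_of_pow_eq_one e
    rw [hg] at this
    have := Nat.le_of_dvd hj this
    omega
  · have h0 : (4 : F) = 0 := by exact_mod_cast h ▸ Nat.cast_card_eq_zero F
    exact pow_eq_zero_iff (n := 2) (by omega) |>.1 (by linear_combination h0)

variable {hF : Facts.{u} D}

/-- Lifts over a small field from checks of separation. -/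
theorem lifts_small {T : Cert} (hT : Checks D T) (hE : Extra D) {k : ℕ} (hroom : Room F k)
    {cands : List (List ℤ)} {words : List ((ℕ × ℕ) × List ℕ)} (hm : moveK D k cands = true)
    (hpairs : pairsK D T k cands words = true) (hrefl : TermsRefl D)
    (hpc : ∀ (E : Type v) [Group E] (A : CExt hF F E), ∀ r < D.nroots, A.PC r r)
    (hswap : words = [] ∨ (∀ a : F, a = 0 ∨ a = 1 ∨ a = -1) ∧ (3 : F) = 0) :
    LiftsExist.{u, v} hF F ∧ LiftsUnique.{u, v, w, w'} hF F := by
  have hmove := move_of_moveK hroom hm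
  refine ⟨fun E _ A => ?_, fun E _ A _ _ L j hj _ _ L' j' hj' r t hr => ?_⟩
  · let S := torSys A hmove (hpc E A)
    refine ⟨S.span, S.toLift (fun a b ha hab hb => ?_) hrefl, fun _ => rfl⟩
    have hc := hpairs
    simp only [pairsK, List.all_eq_true, List.mem_range, Bool.or_eq_true, decide_eq_true_eq,
      List.any_eq_true, Bool.and_eq_true, beq_iff_eq] at hc
    rcases hc a (hab.trans hb) b hb with (((e | e) | e) | e) | ⟨w, hw, e, hsw⟩
    · omega
    · omega
    · exact Or.inl (Or.inl (moves_of_sepK hroom e))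
    · exact Or.inl (Or.inr (Or.inl (moves_of_sepK hroom e)))
    · rcases hswap with hnil | ⟨h3, h30⟩
      · rw [hnil] at hw; simp at hw
      · have hpc' := pc_of_swap A hT h3 h30 (hab.trans hb) hb hsw
        simp only [swapChk, Bool.and_eq_true, List.isEmpty_iff] at hsw
        obtain ⟨⟨⟨⟨-, ⟨e1, e2⟩, -⟩, -⟩, -⟩, -⟩ := hsw
        exact Or.inl (Or.inr (Or.inr ⟨e1, e2, hpc'⟩))
  · rw [tor_unique A hmove (hpc E A) L j hj hE hr, tor_unique A hmove (hpc E A) L' j' hj' hE hr]

end Cfsg.Agent.ChevExt
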