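import Cfsg.Agent.ChevExt.Main
import Cfsg.Agent.Chev.LiftPerfect

/-!
The lifted torus of a lift and the kernel inside it.
-/

set_option autoImplicit false

namespace Cfsg.Agent.ChevExt

open Cfsg.Lie Cfsg.Agent.Chev
open scoped MatrixGroups commutatorElement

universe u v

variable {D : ChevalleyDatum} {hF : Facts.{u} D} {F : Type u} [Field F] {H : Type v} [Group H]

/-- The torus of a lift is multiplicative in each parameter. -/
def HMul' (L : Lift hF F H) : Prop := ∀ (i : Fin D.rank) (a b : Fˣ),
  L.h (D.simple i) (a : F) * L.h (D.simple i) (b : F) = L.h (D.simple i) ((a * b : Fˣ) : F)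

theorem hMul_of_finite [Finite F] (L : Lift hF F H) (hE : Extra D) : HMul' L := fun i a b => by
  rw [Units.val_mul]
  exact L.h_mul hE _ (hF.simple_lt i i.2) _ _ (Units.ne_zero a) (Units.ne_zero b)

variable (L : Lift hF F H) (hE : Extra D) (hm : HMul' L)

/-- The lifted `h_i`. -/
def hOne (i : Fin D.rank) : Fˣ →* H where
  toFun a := L.h (D.simple i) (a : F)
  map_one' := by
    have := hm i 1 1
    rw [mul_one] at this
    exact mul_eq_left.1 this
  map_mul' a b := (hm i a b).symm

/-- The lifted torus as an image of the parameter group. -/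
noncomputable def hTor : (Fin D.rank → Fˣ) →* H :=
  MonoidHom.noncommPiCoprod (hOne L hm) fun i j _ a b => L.h_conj_h hE hm i j a b

theorem hTor_single (i : Fin D.rank) (a : Fˣ) :
    hTor L hE hm (Pi.mulSingle i a) = L.h (D.simple i) (a : F) :=
  MonoidHom.noncommPiCoprod_mulSingle _ _ _

omit hF in
theorem hom_ext_single {n : ℕ} {A : Type*} [CommGroup A] {M : Type*} [Group M]
    {f g : (Fin n → A) →* M} (h : ∀ i a, f (Pi.mulSingle i a) = g (Pi.mulSingle i a)) : f = g :=
  MonoidHom.ext fun c => Subgroup.pi_mem_of_mulSingle_mem (H := f.eqLocus g) c fun i => h i (c i)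

theorem θ_hTor (c : Fin D.rank → Fˣ) : L.θ (hTor L hE hm c) = torusHom c := by
  suffices h : L.θ.comp (hTor L hE hm) = torusHom from congrArg (fun f => f c) h
  refine hom_ext_single fun i a => ?_
  rw [MonoidHom.comp_apply, hTor_single, L.θ_h, hG_simple hF i.2, coH_simple hF i.2]

include hE hm in
theorem exists_of_mem_ker {g : H} (hg : L.θ g = 1) :
    ∃ c : Fin D.rank → Fˣ, torusHom c = (1 : GL D.Idx F) ∧ hTor L hE hm c = g := by
  classical
  have hle : L.tor ≤ (hTor L hE hm).range := by
    refine (Subgroup.closure_le _).2 ?_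
    rintro _ ⟨i, t, hi, ht, rfl⟩
    exact ⟨Pi.mulSingle ⟨i, hi⟩ (Units.mk0 t ht), hTor_single L hE hm _ _⟩
  obtain ⟨c, rfl⟩ := hle (L.ker_le_tor hE hg)
  exact ⟨c, by rwa [θ_hTor] at hg, rfl⟩

/-- When the torus parameters map injectively, the kernel is the group of parameters acting
trivially. -/
noncomputable def kerEquiv (hinj : Function.Injective (hTor L hE hm)) :
    (torusHom : (Fin D.rank → Fˣ) →* GL D.Idx F).ker ≃* L.θ.ker :=
  MulEquiv.ofBijective
    (((hTor L hE hm).comp (Subgroup.subtype _)).codRestrict L.θ.ker fun c => by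
      rw [MonoidHom.mem_ker, MonoidHom.comp_apply, θ_hTor]; exact c.2)
    ⟨fun a b e => Subtype.ext (hinj (congrArg Subtype.val e)), fun g => by
      obtain ⟨c, hc, e⟩ := exists_of_mem_ker L hE hm g.2
      exact ⟨⟨c, hc⟩, Subtype.ext e⟩⟩

/-- The number of parameters acting trivially. -/
theorem card_torusHom_ker [Fintype F] {C : Cert} (h : Checks D C) (hF : Facts.{u} D)
    {P P' Q Q' : List (List ℤ)} {d : List ℕ} (hc : chkSmith D C P P' Q Q' d = true) :
    Nat.card ↥(torusHom : (Fin D.rank → Fˣ) →* GL D.Idx F).ker =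
      ∏ i : Fin D.rank, (Fintype.card F - 1).gcd (d.getD i 0) := by
  classical
  have h1 := card_diagonal (F := F) h hF hc
  rw [diagonal_eq_range hF] at h1
  have h2 := Subgroup.card_mul_index (torusHom : (Fin D.rank → Fˣ) →* GL D.Idx F).ker
  rw [Subgroup.index_ker] at h2
  rw [← Fintype.card_units, ← Nat.card_eq_fintype_card] at h1
  rw [Nat.card_fun, Nat.card_fin] at h2
  rw [← h2] at h1
  rw [← Fintype.card_units, ← Nat.card_eq_fintype_card]
  exact (Nat.eq_of_mul_eq_mul_right Nat.card_pos h1).symm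

theorem stLift_hMul (hF : Facts.{u} D) : HMul' (stLift hF (F := F)) := stLift_hmul hF

/-- The universal group is finite over a finite field. -/
theorem finite_steinberg [Finite F] (hF : Facts.{u} D) (hE : Extra D) :
    Finite (D.SteinbergGroup F) := by
  classical
  have : Fintype F := Fintype.ofFinite F
  set L := stLift hF (F := F)
  have hk : Finite L.θ.ker := by
    refine Finite.of_surjective
      (α := (torusHom : (Fin D.rank → Fˣ) →* GL D.Idx F).ker)
      (fun c => ⟨hTor L hE (stLift_hMul hF) c, by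
        rw [MonoidHom.mem_ker, θ_hTor]; exact c.2⟩) fun g => ?_
    obtain ⟨c, hc, e⟩ := exists_of_mem_ker L hE (stLift_hMul hF) g.2
    exact ⟨⟨c, hc⟩, Subtype.ext e⟩
  have hi : L.θ.ker.FiniteIndex := ⟨by
    rw [Subgroup.index_ker]; exact Nat.card_pos.ne'⟩
  exact (Subgroup.finite_iff_finite_and_finiteIndex L.θ.ker).2 ⟨hk, hi⟩

end Cfsg.Agent.ChevExt
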