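import Cfsg.Agent.ChevExt.Equi

/-!
Lifts of root elements as commutators with preimages of the torus.
-/

set_option autoImplicit false

namespace Cfsg.Agent.ChevExt

open Cfsg.Lie Cfsg.Agent.Chev
open scoped MatrixGroups commutatorElement

universe u v w

/-- The exponent of the parameter `m` at the root `s`. -/
def dot (D : ChevalleyDatum) (m : List ℤ) (s : ℕ) : ℤ :=
  ((List.range D.rank).map fun j => m.getD j 0 * D.cartan j s).sum

variable {D : ChevalleyDatum} {F : Type u} [Field F]

/-- The torus parameter with exponents `m` in `l`. -/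
def powTor (D : ChevalleyDatum) (m : List ℤ) (l : Fˣ) : Fin D.rank → Fˣ := fun j => l ^ m.getD j 0

theorem chiU_powTor (m : List ℤ) (l : Fˣ) (s : ℕ) :
    chiU (D := D) (powTor D m l) s = l ^ dot D m s := by
  rw [dot, list_range_map_sum, zpow_finset_sum, chiU]
  exact Finset.prod_congr rfl fun j _ => by rw [powTor, ← zpow_mul]

namespace CExt

variable {hF : Facts.{u} D} {E : Type v} [Group E] (A : CExt hF F E)

theorem comm_torusHom (c : Fin D.rank → Fˣ) {r : ℕ} (hr : r < D.nroots) (s : F) :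
    ⁅(torusHom c : GL D.Idx F), xG hF r s⁆ = xG hF r (((chiU c r : F) - 1) * s) := by
  rw [commutatorElement_def, torusHom_conj hF c hr, mul_inv_cancel_right, xG_inv, xG_mul]
  congr 1; ring

theorem Br_add_left {r s : ℕ} (h : A.ImgComm r s) (a a' b : F) :
    A.Br r s (a + a') b = A.Br r s a b * A.Br r s a' b := by
  have hc : ∀ a b, A.Br r s a b ∈ Subgroup.center E := fun a b => A.central (by
    rw [MonoidHom.mem_ker, A.θ_Br, commutatorElement_eq_one_iff_commute]; exact h a b)
  rw [← A.br_eq_Br (x := A.lift r a * A.lift r a') (y := A.lift s b)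
    (by rw [map_mul, A.θ_lift, A.θ_lift, xG_mul]) (A.θ_lift s b)]
  have := Subgroup.mem_center_iff.1 (hc a' b) (A.lift r a)
  calc ⁅A.lift r a * A.lift r a', A.lift s b⁆
      = (A.lift r a * A.Br r s a' b) * (A.lift r a)⁻¹ * A.Br r s a b := by
        simp only [Br, commutatorElement_def]; group
    _ = A.Br r s a b * A.Br r s a' b := by
        rw [this, mul_inv_cancel_right, Subgroup.mem_center_iff.1 (hc a' b) (A.Br r s a b)]

theorem Br_swap (r s : ℕ) (a b : F) : A.Br s r b a = (A.Br r s a b)⁻¹ := by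
  rw [Br, Br, commutatorElement_inv]

/-- Central commutators of lifts are invariant under the torus. -/
theorem Br_tor {r s : ℕ} (hr : r < D.nroots) (hs : s < D.nroots) (h : A.ImgComm r s)
    (c : Fin D.rank → Fˣ) (a b : F) :
    A.Br r s ((chiU c r : F) * a) ((chiU c s : F) * b) = A.Br r s a b := by
  obtain ⟨g, hg⟩ := A.exists_tor c
  have hc : A.Br r s a b ∈ Subgroup.center E := A.central (by
    rw [MonoidHom.mem_ker, A.θ_Br, commutatorElement_eq_one_iff_commute]; exact h a b)
  rw [← A.br_eq_Br (x := g * A.lift r a * g⁻¹) (y := g * A.lift s b * g⁻¹)]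
  · calc ⁅g * A.lift r a * g⁻¹, g * A.lift s b * g⁻¹⁆ = g * A.Br r s a b * g⁻¹ := by
          simp only [Br, commutatorElement_def]; group
      _ = A.Br r s a b := by rw [Subgroup.mem_center_iff.1 hc g, mul_inv_cancel_right]
  · rw [map_mul, map_mul, map_inv, hg, A.θ_lift, torusHom_conj hF c hr, mul_inv_cancel_right]
  · rw [map_mul, map_mul, map_inv, hg, A.θ_lift, torusHom_conj hF c hs, mul_inv_cancel_right]

theorem PC_of_moves {r s : ℕ} (hr : r < D.nroots) (hs : s < D.nroots) (h : A.ImgComm r s)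
    (hm : Moves D F s r ∨ Moves D F r s) : A.PC r s := by
  wlog hm' : Moves D F s r generalizing r s
  · exact (this hs hr (fun a b => (h b a).symm) hm.symm (hm.resolve_left hm')).symm
  obtain ⟨c, hcs, hcr⟩ := hm'
  intro a b
  rw [← commutatorElement_eq_one_iff_commute]
  show A.Br r s a b = 1
  have hne : ((chiU c r : Fˣ) : F) - 1 ≠ 0 := fun e => hcr (Units.ext (sub_eq_zero.1 e))
  set x := a / ((chiU c r : F) - 1) with hx
  have e1 := A.Br_add_left h a x b
  rw [show a + x = (chiU c r : F) * x by rw [hx]; field_simp; ring] at e1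
  have e2 := A.Br_tor hr hs h c x b
  rw [hcs, Units.val_one, one_mul] at e2
  rw [e2] at e1
  exact right_eq_mul.1 e1

/-- Commuting of lifts in one root group, from enough torus elements. -/
theorem PC_self_of_units {r : ℕ} (hr : r < D.nroots) (hall : ∀ v : Fˣ, ∃ c, chiU (D := D) c r = v)
    {x : F} (hx : x ≠ 0) (hx1 : 1 + x ≠ 0) (hx2 : x ^ 2 + x + 1 ≠ 0) : A.PC r r := by
  have h : A.ImgComm r r := fun a b => by show _ = _; rw [xG_mul, xG_mul, add_comm]
  have inv : ∀ v : F, v ≠ 0 → ∀ a b, A.Br r r (v * a) b = A.Br r r a (v⁻¹ * b) := by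
    intro v hv a b
    obtain ⟨c, hc⟩ := hall (Units.mk0 v hv)
    have := A.Br_tor hr hr h c a (v⁻¹ * b)
    rwa [hc, Units.val_mk0, ← mul_assoc, mul_inv_cancel₀ hv, one_mul] at this
  have addr : ∀ a b b', A.Br r r a (b + b') = A.Br r r a b * A.Br r r a b' := fun a b b' => by
    rw [A.Br_swap r r, A.Br_add_left h, mul_inv_rev, ← A.Br_swap r r, ← A.Br_swap r r]
    exact (Subgroup.mem_center_iff.1 (A.central (by
      rw [MonoidHom.mem_ker, A.θ_Br, commutatorElement_eq_one_iff_commute]; exact h a b)) _)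
  intro a b
  rw [← commutatorElement_eq_one_iff_commute]
  show A.Br r r a b = 1
  set k := x⁻¹ + 1 - (1 + x)⁻¹ with hk
  have hk0 : k ≠ 0 := by
    have : k = (x ^ 2 + x + 1) / (x * (1 + x)) := by rw [hk]; field_simp; ring
    rw [this]
    exact div_ne_zero hx2 (mul_ne_zero hx hx1)
  obtain ⟨u, rfl⟩ : ∃ u, k * u = b := ⟨b / k, mul_div_cancel₀ _ hk0⟩
  have e1 := inv (1 + x) hx1 a u
  rw [add_mul, one_mul, A.Br_add_left h, inv x hx a u, ← addr] at e1
  have e2 := addr a (k * u) ((1 + x)⁻¹ * u)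
  rw [show k * u + (1 + x)⁻¹ * u = u + x⁻¹ * u by rw [hk]; ring, e1] at e2
  exact right_eq_mul.1 e2

/-- The lift of `r` commutes with itself when `r` is a root of a suitable commutator. -/
theorem PC_self_of_bracket {r γ δ : ℕ} (hγ : γ < D.nroots) (hδ : δ < D.nroots)
    (hne : δ ≠ γ) (hne' : δ ≠ D.neg γ) {l₁ l₂ : List (ℕ × ℤ × ℕ × ℕ)} {N : ℤ} {i : ℕ}
    (hl : D.commTerms γ δ = l₁ ++ (r, N, i, 1) :: l₂) (hN : N.natAbs = 1)
    (h1 : A.ImgComm r γ) (h2 : A.ImgComm r δ)
    (hp : ∀ q ∈ l₁ ++ l₂, A.PC r q.1) : A.PC r r := by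
  intro a b
  set k : F := (N : F) * (-(1 : F)) ^ i with hkdef
  have hk : k * k = 1 := by
    rw [hkdef, mul_mul_mul_comm, ← pow_add, ← two_mul, pow_mul, neg_one_sq, one_pow, mul_one]
    rcases Int.natAbs_eq N with e | e <;> rw [e, hN] <;> simp
  set u := k * b with hu
  let y : ℕ × ℤ × ℕ × ℕ → E := fun c =>
    A.lift c.1 ((c.2.1 : F) * (-(1 : F)) ^ c.2.2.1 * u ^ c.2.2.2)
  have hc : Commute (A.lift r a) ((D.commTerms γ δ).map y).prod := by
    refine A.commute_of_bracket (v := (A.lift δ u)⁻¹) (w := (A.lift γ 1)⁻¹) ?_ ?_ ?_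
    · rw [map_inv, A.θ_lift, A.θ_lift]; exact (h2 a u).inv_right
    · rw [map_inv, A.θ_lift, A.θ_lift]; exact (h1 a 1).inv_right
    · rw [map_list_prod, List.map_map, map_inv, map_inv, A.θ_lift, A.θ_lift, commutatorElement_def,
        inv_inv, inv_inv, mul_assoc _ (xG hF δ u), xG_comm hF hγ hδ hne hne']
      rw [show (xG hF δ u)⁻¹ * (xG hF γ 1)⁻¹ * (xG hF γ 1 * xG hF δ u *
        wordG hF (D.commWord F γ δ 1 u)) = wordG hF (D.commWord F γ δ 1 u) by group]
      rw [wordG, ChevalleyDatum.commWord, List.map_map]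
      exact congrArg List.prod (List.map_congr_left fun c _ => A.θ_lift _ _)
  have hall : ∀ l : List (ℕ × ℤ × ℕ × ℕ), (∀ q ∈ l, A.PC r q.1) →
      Commute (A.lift r a) (l.map y).prod := fun l hl => Commute.list_prod_right _ _ fun z hz => by
    obtain ⟨q, hq, rfl⟩ := List.mem_map.1 hz
    exact hl q hq a _
  rw [hl, List.map_append, List.map_cons, List.prod_append, List.prod_cons] at hc
  have e1 := hall l₁ fun q hq => hp q (List.mem_append_left _ hq)
  have e2 := hall l₂ fun q hq => hp q (List.mem_append_right _ hq)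
  have e3 := (e1.inv_right.mul_right hc).mul_right e2.inv_right
  rw [inv_mul_cancel_left, mul_inv_cancel_right] at e3
  simp only [y, pow_one] at e3
  rwa [← hkdef, hu, ← mul_assoc, hk, one_mul] at e3

end CExt

variable {hF : Facts.{u} D} {E : Type v} [Group E] (A : CExt hF F E)

/-- Some torus element moves the root elements of `r`. -/
abbrev Moved (D : ChevalleyDatum) (F : Type u) [Field F] (r : ℕ) : Prop :=
  ∃ c : Fin D.rank → Fˣ, chiU (D := D) c r ≠ 1


/-- The chosen preimage of a torus element moving `r`. -/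
noncomputable def torG {r : ℕ} (hv : Moved D F r) : E := (A.exists_tor hv.choose).choose

/-- The lift of a root element as a commutator. -/
noncomputable def torX (r : ℕ) (t : F) : E :=
  open Classical in
  if h : r < D.nroots ∧ Moved D F r then
    ⁅torG A h.2, A.lift r (t / ((chiU h.2.choose r : F) - 1))⁆
  else if r < D.nroots then A.lift r t else 1

theorem torG_ne {r : ℕ} (hv : Moved D F r) : ((chiU hv.choose r : Fˣ) : F) - 1 ≠ 0 :=
  fun e => hv.choose_spec (Units.ext (sub_eq_zero.1 e))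

theorem θ_torX (r : ℕ) (t : F) : A.θ (torX A r t) = xG hF r t := by
  unfold torX
  split_ifs with h h'
  · obtain ⟨hr, hv⟩ := h
    rw [map_commutatorElement,
      show A.θ (torG A hv) = torusHom _ from (A.exists_tor _).choose_spec, A.θ_lift,
      CExt.comm_torusHom _ hr, mul_div_cancel₀ _ (torG_ne hv)]
  · exact A.θ_lift r t
  · rw [map_one]; exact (Units.ext (by rw [xG_val, x_of_ge h']; rfl)).symm

theorem torX_equi {r : ℕ} (hr : r < D.nroots) (hv : Moved D F r) (g : E) (c : Fin D.rank → Fˣ)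
    (hg : A.θ g = torusHom c) (t : F) :
    g * torX A r t * g⁻¹ = torX A r ((chiU c r : F) * t) := by
  have hd := (A.exists_tor hv.choose).choose_spec
  simp only [torX, dif_pos (And.intro hr hv)]
  rw [← A.br_indep (a := g * torG A hv * g⁻¹)
    (b := g * A.lift r (t / ((chiU hv.choose r : F) - 1)) * g⁻¹)
    (a' := torG A hv)
    (b' := A.lift r ((chiU c r : F) * t / ((chiU hv.choose r : F) - 1)))]
  · simp only [commutatorElement_def]; group
  · rw [map_mul, map_mul, map_inv, hg]
    show torusHom c * A.θ (A.exists_tor hv.choose).choose * (torusHom c)⁻¹ = _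
    rw [hd, ← map_inv, ← map_mul, ← map_mul, mul_right_comm, mul_inv_cancel, one_mul]
    exact hd.symm
  · rw [map_mul, map_mul, map_inv, hg, A.θ_lift, A.θ_lift, torusHom_conj hF c hr,
      mul_inv_cancel_right]
    congr 1; ring

theorem torX_add {r : ℕ} (hr : r < D.nroots) (hv : Moved D F r) (hp : A.PC r r) (t₁ t₂ : F) :
    torX A r t₁ * torX A r t₂ = torX A r (t₁ + t₂) := by
  have h2 : ∀ t, A.θ ⁅torG A hv, A.lift r t⁆ =
      xG hF r (((chiU hv.choose r : F) - 1) * t) := fun t => by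
    rw [map_commutatorElement, A.θ_lift,
      show A.θ (torG A hv) = torusHom _ from (A.exists_tor _).choose_spec,
      CExt.comm_torusHom _ hr]
  simp only [torX, dif_pos (And.intro hr hv)]
  set g := torG A hv
  set a := t₁ / ((chiU hv.choose r : F) - 1)
  set b := t₂ / ((chiU hv.choose r : F) - 1)
  rw [show (t₁ + t₂) / ((chiU hv.choose r : F) - 1) = a + b from add_div _ _ _,
    A.br_indep (a := g) (b := A.lift r (a + b)) (a' := g) (b' := A.lift r a * A.lift r b) rfl
      (by rw [map_mul, A.θ_lift, A.θ_lift, A.θ_lift, xG_mul])]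
  have hcm : Commute (A.lift r a) ⁅g, A.lift r b⁆ :=
    CExt.PC.of_map A hp (A.θ_lift r a) (h2 b)
  calc ⁅g, A.lift r a⁆ * ⁅g, A.lift r b⁆
      = ⁅g, A.lift r a⁆ * (A.lift r a * ⁅g, A.lift r b⁆ * (A.lift r a)⁻¹) := by
        rw [hcm.eq, mul_inv_cancel_right]
    _ = ⁅g, A.lift r a * A.lift r b⁆ := by simp only [commutatorElement_def]; group

theorem torX_comm {r : ℕ} (hr : r < D.nroots) (hv : Moved D F r) (hp : A.PC r r) {g y : E} {c : Fin D.rank → Fˣ} {s : F}
    (hg : A.θ g = torusHom c) (hy : A.θ y = xG hF r s) :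
    ⁅g, y⁆ = torX A r (((chiU c r : F) - 1) * s) := by
  have h0 : torX A r 0 = 1 := mul_eq_left.1
    (by rw [torX_add A hr hv hp, add_zero] : torX A r 0 * torX A r 0 = torX A r 0)
  have hi : (torX A r s)⁻¹ = torX A r (-s) :=
    inv_eq_of_mul_eq_one_right (by rw [torX_add A hr hv hp, add_neg_cancel, h0])
  rw [A.br_indep (a' := g) (b' := torX A r s) rfl (by rw [hy, θ_torX]), commutatorElement_def,
    torX_equi A hr hv g c hg, hi, torX_add A hr hv hp]
  congr 1; ring

theorem torX_weyl {i r : ℕ} (hi : i < D.rank) (hr : r < D.nroots) (hv : Moved D F r)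
    (hv' : Moved D F (D.reflectRoot i r)) (hp' : A.PC (D.reflectRoot i r) (D.reflectRoot i r))
    {g : E} (hg : A.θ g = nS hF i) (t : F) :
    ∃ v, g * torX A r t * g⁻¹ = torX A (D.reflectRoot i r) v := by
  have hd := (A.exists_tor hv.choose).choose_spec
  set s := t / ((chiU hv.choose r : F) - 1)
  refine ⟨_, Eq.trans ?_ (torX_comm A (hF.refl_lt i hi r hr) hv' hp'
    (g := g * torG A hv * g⁻¹) (y := g * A.lift r s * g⁻¹)
    (c := hv.choose * Pi.mulSingle ⟨i, hi⟩ (chiU hv.choose (D.simple i))⁻¹)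
    (s := A.eta i r * s) ?_ ?_)⟩
  · simp only [torX, dif_pos (And.intro hr hv)]
    simp only [commutatorElement_def, s]; group
  · rw [map_mul, map_mul, map_inv, hg,
      show A.θ (torG A hv) = torusHom _ from hd, nS_conj_torus hF hi, mul_inv_cancel_right]
  · rw [map_mul, map_mul, map_inv, hg, A.θ_lift, A.conj_xG hi hr]

variable (hm : ∀ r < D.nroots, Moved D F r) (hpc : ∀ r < D.nroots, A.PC r r)

/-- The system of commutator lifts. -/
noncomputable def torSys : Sys A where
  X := torX A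
  θ_X := θ_torX A
  add r hr := torX_add A hr (hm r hr) (hpc r hr)
  equi r hr := torX_equi A hr (hm r hr)
  weyl i hi r hr g hg t := torX_weyl A hi hr (hm r hr) (hm _ (hF.refl_lt i hi r hr))
    (hpc _ (hF.refl_lt i hi r hr)) hg t

omit hm hpc in
theorem torX_unique {H' : Type w} [Group H'] (L : Lift hF F H') (j : H' →* E)
    (hj : ∀ g : H', A.θ (j g) = L.θ g) (hE : Extra D) {r : ℕ} (hr : r < D.nroots)
    (hv : Moved D F r) (hp : A.PC r r) (t : F) :
    j (L.X r t) = torX A r t := by
  obtain ⟨c, hc⟩ := id hv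
  have hc' : ((chiU c r : Fˣ) : F) - 1 ≠ 0 := fun e => hc (Units.ext (sub_eq_zero.1 e))
  obtain ⟨τ, hτ, hθ⟩ : ∃ τ ∈ L.tor, L.θ τ = torusHom c := by
    let M : Subgroup (Fin D.rank → Fˣ) := (L.tor.map L.θ).comap torusHom
    refine Subgroup.pi_mem_of_mulSingle_mem (H := M) c fun i => ?_
    refine ⟨L.h (D.simple i) (c i : F), L.h_mem_tor i (Units.ne_zero _), ?_⟩
    rw [L.θ_h, hG_simple hF i.2, coH_simple hF i.2]
  have e : L.X r t = ⁅τ, L.X r (t / ((chiU c r : F) - 1))⁆ := by
    rw [commutatorElement_def, L.conj_of_mon_one (L.mon_tor hE hτ) hθ hr, L.X_inv hr, L.add r hr]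
    congr 1
    field_simp
    ring
  rw [e, map_commutatorElement, torX_comm A hr hv hp (c := c) (by rw [hj, hθ]) (by rw [hj, L.θ_X]),
    mul_div_cancel₀ _ hc']

include hpc hm in
theorem tor_unique {H' : Type w} [Group H'] (L : Lift hF F H') (j : H' →* E)
    (hj : ∀ g : H', A.θ (j g) = L.θ g) (hE : Extra D) {r : ℕ} (hr : r < D.nroots) (t : F) :
    j (L.X r t) = torX A r t :=
  torX_unique A L j hj hE hr (hm r hr) (hpc r hr) t

end Cfsg.Agent.ChevExt
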