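import Cfsg.Agent.ChevExt.Torus

/-!
Stem extensions of the universal group: uniqueness of lifts, and the multiplier of the adjoint
group when the lifted torus of the universal group is faithful.
-/

set_option autoImplicit false

namespace Cfsg.Agent.ChevExt

open Cfsg.Lie Cfsg.Agent.Chev
open scoped MatrixGroups commutatorElement

universe u v w

variable {D : ChevalleyDatum} {hF : Facts.{u} D} {F : Type u} [Field F]

namespace CExt

variable {H : Type v} [Group H] (A : CExt hF F H) (C : SimplyCert D)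

theorem canX_zero {r : ℕ} (hr : r < D.nroots) : A.canX C r 0 = 1 :=
  mul_eq_left.1 (by rw [A.canX_add C hr, add_zero] : A.canX C r 0 * A.canX C r 0 = A.canX C r 0)

/-- A system of lifts with the relations (R1), (R2) is the canonical one. -/
theorem eq_canX {H' : Type w} [Group H'] (L : Lift hF F H') (j : H' →* H)
    (hL : ∀ g : H', A.θ (j g) = L.θ g) {c : ℕ}
    (hc : c < D.nroots) (t : F) : j (L.X c t) = A.canX C c t := by
  by_cases ht : t = 0
  · rw [ht, L.X_zero hc, A.canX_zero C hc, map_one]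
  obtain ⟨γ, δ, hd⟩ := (A.canon_all C c hc).1
  have hd' := hd
  obtain ⟨hγ, hδ, -, hne, e, he, hcom⟩ := hd'
  have he0 : e ≠ 0 := left_ne_zero_of_mul_eq_one he
  have hsr : δ ≠ γ := fun e' => he0 ((xG_eq_one_iff hF hc).1 (by
    have h11 := hcom 1 1
    rw [mul_one, mul_one] at h11
    rw [← h11, commutatorElement_eq_one_iff_commute, e']
    exact Commute.refl _))
  have hX : ∀ r u, A.θ (j (L.X r u)) = xG hF r u := fun r u => by rw [hL, L.θ_X]
  have hb : A.Br γ δ (e * t) 1 = A.canX C c t :=
    A.canX_eq C hd (by rw [A.θ_Br, hcom, mul_one, ← mul_assoc, he, one_mul])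
  rw [← hb, ← A.br_eq_Br (hX γ (e * t)) (hX δ 1)]
  have hne' : γ ≠ D.neg δ := fun e' => hne (by rw [e', neg_neg_root hF hδ])
  have hbr : ⁅(L.X γ (e * t)), (L.X δ 1)⁆ =
      ((D.commWord F δ γ (-1) (-(e * t))).map fun p => L.X p.1 p.2).prod := by
    rw [← L.comm δ γ hδ hγ (Ne.symm hsr) hne', L.X_inv hγ, L.X_inv hδ, neg_neg, neg_neg,
      commutatorElement_def, L.X_inv hγ, L.X_inv hδ]
  have hθ : xG hF c t =
      ((D.commWord F δ γ (-1) (-(e * t))).map fun p => xG hF p.1 p.2).prod := by
    have := congrArg L.θ hbr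
    rw [map_commutatorElement, L.θ_X, L.θ_X, hcom, mul_one, ← mul_assoc, he, one_mul,
      map_list_prod, List.map_map] at this
    rw [this]
    exact congrArg List.prod (List.map_congr_left fun p _ => L.θ_X _ _)
  show _ = ⁅j (L.X γ (e * t)), j (L.X δ 1)⁆
  rw [← map_commutatorElement, hbr]
  rcases A.pair_spec C hγ hδ hsr hne with ⟨-, h0⟩ | ⟨c', -, ⟨-, -, hc', -⟩, -, -, -, N, hN⟩
  · simp only [ChevalleyDatum.commWord, h0, List.map_nil, List.prod_nil] at hθ
    exact absurd ((xG_eq_one_iff hF hc).1 hθ) ht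
  · simp only [ChevalleyDatum.commWord, hN, List.map_cons, List.map_nil, List.prod_cons,
      List.prod_nil, mul_one] at hθ ⊢
    obtain ⟨rfl, hv⟩ := eq_of_x_eq hF hc ht (congrArg Units.val hθ)
    rw [← hv]

end CExt

variable (C : SimplyCert D) (hE : Extra D)

include C hE in
/-- Every stem extension of the adjoint group is generated centrally by the parameters acting
trivially on it. -/
theorem exists_torus_cover (hF : Facts.{u} D) [Finite F] {Γ : Type v} [Group Γ] (σ : Γ →* ↥(D.group F))
    (hσ : Cfsg.IsStemExtension σ) :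
    ∃ ψ : (torusHom : (Fin D.rank → Fˣ) →* GL D.Idx F).ker →* σ.ker, Function.Surjective ψ := by
  obtain ⟨S, L, hS, hL⟩ := exists_lift_of_stem hF C σ hσ
  have hm := hMul_of_finite L hE
  refine ⟨(S.subtype.comp ((hTor L hE hm).comp (Subgroup.subtype _))).codRestrict σ.ker fun c =>
    MonoidHom.mem_ker.2 ((hL _).1 (by rw [MonoidHom.comp_apply, θ_hTor]; exact c.2)), fun g => ?_⟩
  obtain ⟨c, hc, e⟩ := exists_of_mem_ker L hE hm (g := ⟨g, hS g.2⟩) ((hL _).2 g.2)
  exact ⟨⟨c, hc⟩, Subtype.ext (congrArg (fun x : S => (x : Γ)) e :)⟩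

/-- The universal group as a stem extension of the adjoint group. -/
theorem isStem_θG {H : Type v} [Group H] {hF : Facts.{u} D} (L : Lift hF F H) (hE : Extra D)
    (hp : commutator H = ⊤) : Cfsg.IsStemExtension L.θG := by
  have hk : L.θG.ker = L.θ.ker := by
    ext g
    simp only [MonoidHom.mem_ker]
    exact ⟨fun h => congrArg Subtype.val h, fun h => Subtype.ext h⟩
  refine ⟨fun g => ?_, hk ▸ L.ker_le_center hE, hp ▸ le_top⟩
  have hg : (g : GL D.Idx F) ∈ L.θ.range := by rw [L.range_θ]; exact g.2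
  obtain ⟨x, hx⟩ := hg
  exact ⟨x, Subtype.ext hx⟩

include C in
/-- The multiplier of the adjoint group. -/
theorem multiplier_adjoint (hF : Facts.{u} D) [Finite F] (hp : commutator (D.SteinbergGroup F) = ⊤)
    (hinj : Function.Injective (hTor (stLift hF (F := F)) hE (stLift_hMul hF))) {n : ℕ}
    (hcyc : IsCyclic (torusHom : (Fin D.rank → Fˣ) →* GL D.Idx F).ker)
    (hn : Nat.card ↥(torusHom : (Fin D.rank → Fˣ) →* GL D.Idx F).ker = n) :
    Cfsg.HasCyclicSchurMultiplier ↥(D.group F) n := by
  have := finite_steinberg hF hE (F := F)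
  set L := stLift hF (F := F)
  have hk : L.θG.ker = L.θ.ker := by
    ext g
    simp only [MonoidHom.mem_ker]
    exact ⟨fun h => congrArg Subtype.val h, fun h => Subtype.ext h⟩
  refine Cfsg.Agent.ProjExt.Stem.hasCyclicSchurMultiplier_of L.θG (isStem_θG L hE hp)
    ((MulEquiv.subgroupCongr hk).trans ((kerEquiv L hE (stLift_hMul hF) hinj).symm.trans
      (mulEquivOfCyclicCardEq (hn.trans (Nat.card_zmod n).symm)))) fun Γ _ _ σ hσ => ?_
  obtain ⟨ψ, hψ⟩ := exists_torus_cover C hE hF σ hσ
  obtain ⟨c, hc⟩ := hcyc.exists_generator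
  refine ⟨ψ c, (ψ c).2, fun g hg => ?_, ?_⟩
  · obtain ⟨x, hx⟩ := hψ ⟨g, hg⟩
    obtain ⟨k, rfl⟩ := hc x
    exact ⟨k, by simpa [map_zpow] using congrArg Subtype.val hx⟩
  · rw [← SubgroupClass.coe_pow, ← map_pow, ← hn, pow_card_eq_one', map_one, OneMemClass.coe_one]

omit C hE in
/-- Over a perfect group a central extension of a central extension is central. -/
theorem ker_comp_central {Γ : Type v} {G : Type w} {G' : Type*} [Group Γ] [Group G] [Group G']
    (σ : Γ →* G) (hσ : σ.ker ≤ Subgroup.center Γ) (hperf : commutator Γ = ⊤) (π : G →* G')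
    (hπ : π.ker ≤ Subgroup.center G) : (π.comp σ).ker ≤ Subgroup.center Γ := by
  intro g hg
  have hcen : σ g ∈ Subgroup.center G := hπ hg
  have hrange : ∀ y, ⁅g, y⁆ ∈ Subgroup.center Γ := fun y => hσ (by
    rw [MonoidHom.mem_ker, map_commutatorElement, commutatorElement_eq_one_iff_commute]
    exact (Subgroup.mem_center_iff.1 hcen (σ y)).symm)
  let χ : Γ →* Γ :=
    { toFun := fun x => ⁅g, x⁆
      map_one' := commutatorElement_one_right g
      map_mul' := fun a b => by
        calc ⁅g, a * b⁆ = ⁅g, a⁆ * (a * ⁅g, b⁆ * a⁻¹) := by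
              simp only [commutatorElement_def]; group
          _ = ⁅g, a⁆ * ⁅g, b⁆ := by
              rw [Subgroup.mem_center_iff.1 (hrange b) a, mul_inv_cancel_right] }
  have hle : commutator Γ ≤ χ.ker := by
    rw [commutator_def, Subgroup.commutator_le]
    intro a _ b _
    rw [MonoidHom.mem_ker, map_commutatorElement, commutatorElement_eq_one_iff_commute]
    exact Subgroup.mem_center_iff.1 (hrange b) _
  rw [hperf] at hle
  rw [Subgroup.mem_center_iff]
  intro x
  exact (commutatorElement_eq_one_iff_commute.1 (hle (Subgroup.mem_top x))).symm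

end Cfsg.Agent.ChevExt
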